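import Groth.Agent.Pic13Lib.Hodge.Index

/-!
# The index theorem on the closure of a point, and on irreducible schemes
-/

set_option autoImplicit false
set_option linter.style.haveILetI false
set_option linter.unusedSectionVars false
set_option backward.isDefEq.respectTransparency false
set_option backward.isDefEq.respectTransparency.types false
set_option maxHeartbeats 1000000

universe u

open CategoryTheory CategoryTheory.Limits AlgebraicGeometry TopologicalSpace Opposite
open Groth.Agent.H23 Groth.Agent.H23.PicMul
open Groth.Agent.H23.IntNumCycle (alt)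

attribute [local instance] PicMul.clMonoid

noncomputable section

namespace Groth.Agent.Pic13Lib.Hodge

variable {k : Type u} [Field k] {X : Scheme.{u}} [X.Over (Spec (CommRingCat.of k))]
  [IsProper (X ↘ Spec (CommRingCat.of k))]

/-- A closed immersion of a reduced scheme factors through the closure of a point containing its image. -/
theorem exists_lift_closure {C : Scheme.{u}} (ι : C ⟶ X) [IsClosedImmersion ι] [IsReduced C] (ξ : X)
    (h : ∀ c, ξ ⤳ ι c) : ∃ (ι' : C ⟶ (IntMult.ptIdeal ξ).subscheme) , IsClosedImmersion ι' ∧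
      ι' ≫ (IntMult.ptIdeal ξ).subschemeι = ι := by
  haveI : IsReduced ι.image := (S2266.result ι).1
  haveI : IsReduced ι.ker.subscheme := ‹IsReduced ι.image›
  have hkle : (IntMult.ptIdeal ξ).subschemeι.ker ≤ ι.ker := by
    rw [Scheme.IdealSheafData.ker_subschemeι, IntMult.ptIdeal]
    refine le_trans (Scheme.IdealSheafData.vanishingIdeal_antimono ?_)
      (AlgSpLib.CartierRegular.eq_vanishingIdeal_support ι.ker).ge
    intro z hz
    replace hz : z ∈ (ι.ker.support : Set X) := hz
    rw [Scheme.Hom.support_ker] at hz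
    refine closure_minimal ?_ isClosed_closure hz
    rintro _ ⟨c, rfl⟩
    exact specializes_iff_mem_closure.1 (h c)
  refine ⟨IsClosedImmersion.lift (IntMult.ptIdeal ξ).subschemeι ι hkle, ?_, IsClosedImmersion.lift_fac _ _ _⟩
  haveI : IsClosedImmersion (IsClosedImmersion.lift (IntMult.ptIdeal ξ).subschemeι ι hkle ≫
      (IntMult.ptIdeal ξ).subschemeι) := by rw [IsClosedImmersion.lift_fac]; infer_instance
  exact IsClosedImmersion.of_comp _ (IntMult.ptIdeal ξ).subschemeι

/-- The index theorem on the closure of a point. -/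
theorem index_closure {ξ : X} {s : ℕ} (hξ : SnapLead.δ k ξ = ((s + 2 : ℕ) : ℤ)) {H L : X.Modules}
    (hH : CohB1.IsAmple H) (hL : PicF.IsInvertible L)
    (h1 : alt k (s + 2) (Fin.cons L fun _ => H) (Cyc.closureStructureSheaf ξ) = 0)
    (h2 : 0 ≤ (-1 : ℤ) ^ s * alt k (s + 2) (Fin.cons L (Fin.cons L fun _ => H)) (Cyc.closureStructureSheaf ξ))
    {C : Scheme.{u}} (ι : C ⟶ X) [IsClosedImmersion ι] [IsIntegral C] (hC : topologicalKrullDim C = 1)
    (hCξ : ∀ c, ξ ⤳ ι c) :
    Pic13.curveDeg k (ι ≫ (X ↘ Spec (CommRingCat.of k))) ((Scheme.Modules.pullback ι).obj L) = 0 := by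
  let Y := (IntMult.ptIdeal ξ).subscheme
  let j : Y ⟶ X := (IntMult.ptIdeal ξ).subschemeι
  haveI : IsIntegral Y := QCoh.isIntegral_closure_point ξ
  letI : Y.Over (Spec (CommRingCat.of k)) := ⟨j ≫ (X ↘ Spec (CommRingCat.of k))⟩
  haveI : IsProper (Y ↘ Spec (CommRingCat.of k)) :=
    show IsProper (j ≫ (X ↘ Spec (CommRingCat.of k))) from inferInstance
  haveI := CurveCohLib.isNoetherian_of_proper (k := k) (X := Y)
  haveI : CompactSpace Y := QuasiCompact.compactSpace_of_compactSpace (j ≫ (X ↘ Spec (CommRingCat.of k)))
  have hdim : topologicalKrullDim Y = ((s + 2 : ℕ) : WithBot ℕ∞) := by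
    refine (IsHomeomorph.topologicalKrullDim_eq _
      (j.isClosedEmbedding.isEmbedding.toHomeomorph.isHomeomorph)).trans ?_
    rw [Scheme.IdealSheafData.range_subschemeι, IntMult.ptIdeal, Scheme.IdealSheafData.coe_support_vanishingIdeal]
    exact (IntAlt.delta_eq_iff k ξ (s + 2)).2 hξ
  obtain ⟨ι', hι', hfac⟩ := exists_lift_closure ι ξ hCξ
  haveI := hι'
  have hA : ∀ M : Fin (s + 2) → X.Modules, (∀ i, PicF.IsInvertible (M i)) →
      alt k (s + 2) M (Cyc.closureStructureSheaf ξ) =
        alt k (s + 2) (fun i => (Scheme.Modules.pullback j).obj (M i)) (Coh.structureModule Y) := fun M hM => by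
    rw [Pic13Lib.alt_push j rfl hM (TopInt.cohLe_structure k hdim.le)]
    rfl
  have key := index_alt s k Y hdim _ _ (AmpleVan.FiniteSurj.isAmple_pullback_of_isAffineHom j hH)
    (PicClLib.isInvertible_pullback j hL) ?_ ?_ C ι' inferInstance hC
  · rw [← key, show ι' ≫ (Y ↘ Spec (CommRingCat.of k)) = ι ≫ (X ↘ Spec (CommRingCat.of k)) by
      show ι' ≫ j ≫ _ = _
      rw [← Category.assoc, hfac]]
    exact NumTriv.curveDeg_congr k _ (((Scheme.Modules.pullbackComp _ _).app L ≪≫
      (Scheme.Modules.pullbackCongr hfac).app L).symm)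
  · rw [hA _ fun i => by
      induction i using Fin.cases with
      | zero => simpa using hL
      | succ i => simpa using hH.1] at h1
    convert h1 using 2
    funext i
    induction i using Fin.cases <;> rfl
  · rw [hA _ fun i => by
      induction i using Fin.cases with
      | zero => simpa using hL
      | succ i => induction i using Fin.cases with
        | zero => simpa using hL
        | succ i => simpa using hH.1] at h2
    convert h2 using 3
    funext i
    induction i using Fin.cases with
    | zero => rfl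
    | succ i => induction i using Fin.cases <;> rfl

variable [IrreducibleSpace X]

/-- On an irreducible scheme the top numbers are a positive multiple of those of the reduction. -/
theorem exists_mult_generic {g : ℕ} (hdim : topologicalKrullDim X = (g : ℕ)) :
    SnapLead.δ k (genericPoint X) = (g : ℤ) ∧ ∃ m : ℤ, 0 < m ∧ ∀ L : Fin g → X.Modules,
      (∀ i, PicF.IsInvertible (L i)) →
        alt k g L (Coh.structureModule X) = m * alt k g L (Cyc.closureStructureSheaf (genericPoint X)) := by
  classical
  haveI := CurveCohLib.isNoetherian_of_proper (k := k) (X := X)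
  have hδ : SnapLead.δ k (genericPoint X) = (g : ℤ) := by
    refine (IntAlt.delta_eq_iff k _ g).1 ?_
    rw [genericPoint_closure]
    exact (IsHomeomorph.topologicalKrullDim_eq _ (Homeomorph.Set.univ X).isHomeomorph).trans hdim
  have huniq : ∀ x : X, SnapLead.δ k x = (g : ℤ) → x = genericPoint X := fun x hx => by
    by_contra hne
    have h := (SnapLead.isDimFun k (genericPoint X) x (genericPoint_specializes x) (Ne.symm hne)).1
    rw [hδ, hx] at h
    exact lt_irrefl _ h
  have hle := TopInt.cohLe_structure (X := X) k hdim.le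
  refine ⟨hδ, Cyc.sheafFun (SnapLead.δ k) g (Coh.structureModule X) (genericPoint X), ?_, fun L hL => ?_⟩
  · refine (CycleClassK.sheafFun_nonneg _ _ _ _).lt_of_ne (Ne.symm ?_)
    refine (PeriodicRat.nontrivial_iff_sheafFun (SnapLead.isDimFun k) hle).2 ⟨hδ, ?_⟩
    obtain ⟨e⟩ := InvStalk.exists_stalk_equiv (InvX.isInvertible_structureModule (X := X)) (genericPoint X)
    exact e.toEquiv.nontrivial
  · rw [IntAlt.alt_eq_sum_closure k hL hle {genericPoint X}
      (fun ξ hξ => by rw [Finset.mem_singleton.1 hξ]; exact hδ)
      (fun ξ hξ => Finset.mem_singleton.2 (huniq ξ (CycleClassK.nontrivial_of_sheafFun hξ).1)),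
      Finset.sum_singleton]

/-- The index theorem on an irreducible scheme. -/
theorem index_irreducible {s : ℕ} (hdim : topologicalKrullDim X = ((s + 2 : ℕ) : WithBot ℕ∞)) {H L : X.Modules}
    (hH : CohB1.IsAmple H) (hL : PicF.IsInvertible L)
    (h1 : alt k (s + 2) (Fin.cons L fun _ => H) (Coh.structureModule X) = 0)
    (h2 : 0 ≤ (-1 : ℤ) ^ s * alt k (s + 2) (Fin.cons L (Fin.cons L fun _ => H)) (Coh.structureModule X)) :
    Pic13.IsNumEquivZero k X L := by
  obtain ⟨hδ, m, hm, hmult⟩ := exists_mult_generic (k := k) hdim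
  rw [hmult _ fun i => by
    induction i using Fin.cases with
    | zero => simpa using hL
    | succ i => simpa using hH.1, mul_eq_zero, or_iff_right hm.ne'] at h1
  rw [hmult _ fun i => by
    induction i using Fin.cases with
    | zero => simpa using hL
    | succ i => induction i using Fin.cases with
      | zero => simpa using hL
      | succ i => simpa using hH.1, mul_left_comm] at h2
  intro C ι _ hCi hC
  haveI := hCi
  exact index_closure hδ hH hL h1 (pos_iff_nonneg_aux hm h2) ι hC fun c => genericPoint_specializes _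
where
  pos_iff_nonneg_aux {m x : ℤ} (hm : 0 < m) (h : 0 ≤ m * x) : 0 ≤ x := nonneg_of_mul_nonneg_right h hm

end Groth.Agent.Pic13Lib.Hodge
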