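import Groth.Agent.Pic13Lib.Hodge.IndexCor

/-!
# Intersection numbers in inverses, and vanishing from constancy of Euler characteristics
-/

set_option autoImplicit false
set_option linter.style.haveILetI false
set_option linter.unusedSectionVars false
set_option backward.isDefEq.respectTransparency false
set_option backward.isDefEq.respectTransparency.types false
set_option maxHeartbeats 1000000

universe u

open CategoryTheory CategoryTheory.Limits AlgebraicGeometry TopologicalSpace Opposite
open Groth.Agent.H23 Groth.Agent.H23.PicMul
open Groth.Agent.H23.IntNumCycle (alt)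

attribute [local instance] PicMul.clMonoid

noncomputable section

namespace Groth.Agent.Pic13Lib.Hodge

variable {k : Type u} [Field k] {X : Scheme.{u}} [X.Over (Spec (CommRingCat.of k))]
  [IsProper (X ↘ Spec (CommRingCat.of k))]

theorem isInvertible_of_inv {L L' : X.Modules} (hL : PicF.IsInvertible L)
    (h : Nonempty (CohB1.tensorMod L L' ≅ Coh.structureModule X)) : PicF.IsInvertible L' :=
  (CurveOnSurf.isInvertible_of_inverse hL ⟨(PicMul.comm L' L).some ≪≫ h.some⟩).1

/-- The numbers `L H^(s+1)` and `L^2 H^s` in inverses. -/
theorem intNum_pair {s : ℕ} (hd : topologicalKrullDim X ≤ ((s + 2 : ℕ) : WithBot ℕ∞)) {H H' L L' : X.Modules}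
    (hH : PicF.IsInvertible H) (hL : PicF.IsInvertible L)
    (hHH' : Nonempty (CohB1.tensorMod H H' ≅ Coh.structureModule X))
    (hLL' : Nonempty (CohB1.tensorMod L L' ≅ Coh.structureModule X)) :
    FGA.intNum k X (s + 2) (Matrix.vecCons L' (fun _ : Fin (s + 1) => H')) (Coh.structureModule X) =
        (-1 : ℤ) ^ s * alt k (s + 2) (Fin.cons L fun _ => H) (Coh.structureModule X) ∧
      FGA.intNum k X (s + 2) (Matrix.vecCons L' (Matrix.vecCons L' (fun _ : Fin s => H'))) (Coh.structureModule X) =
        (-1 : ℤ) ^ s * alt k (s + 2) (Fin.cons L (Fin.cons L fun _ => H)) (Coh.structureModule X) := by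
  haveI := CurveCohLib.isNoetherian_of_proper (k := k) (X := X)
  have hL' := isInvertible_of_inv hL hLL'
  have hH' := isInvertible_of_inv hH hHH'
  have hle := TopInt.cohLe_structure (X := X) k hd
  have hsign : (-1 : ℤ) ^ (s + 2) = (-1 : ℤ) ^ s := by rw [pow_add]; simp
  constructor
  · show FGA.intNum k X (s + 2) (Fin.cons L' fun _ : Fin (s + 1) => H' : Fin (s + 2) → X.Modules) _ = _
    rw [IntAlt.intNum_eq_alt k hd (fun i => by
        induction i using Fin.cases with
        | zero => simpa using hL'
        | succ i => simpa using hH') QCoh.isCoh_structureModule',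
      Pic13Lib.alt_inverse (L := Fin.cons L fun _ => H) (fun i => by
        induction i using Fin.cases with
        | zero => simpa using hL
        | succ i => simpa using hH) (fun i => by
        induction i using Fin.cases with
        | zero => simpa using hL'
        | succ i => simpa using hH') (fun i => by
        induction i using Fin.cases with
        | zero => simpa using hLL'
        | succ i => simpa using hHH') hle, hsign]
  · show FGA.intNum k X (s + 2)
      (Fin.cons L' (Fin.cons L' fun _ : Fin s => H') : Fin (s + 2) → X.Modules) _ = _
    rw [IntAlt.intNum_eq_alt k hd (fun i => by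
        induction i using Fin.cases with
        | zero => simpa using hL'
        | succ i => induction i using Fin.cases with
          | zero => simpa using hL'
          | succ i => simpa using hH') QCoh.isCoh_structureModule',
      Pic13Lib.alt_inverse (L := Fin.cons L (Fin.cons L fun _ => H)) (fun i => by
        induction i using Fin.cases with
        | zero => simpa using hL
        | succ i => induction i using Fin.cases with
          | zero => simpa using hL
          | succ i => simpa using hH) (fun i => by
        induction i using Fin.cases with
        | zero => simpa using hL'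
        | succ i => induction i using Fin.cases with
          | zero => simpa using hL'
          | succ i => simpa using hH') (fun i => by
        induction i using Fin.cases with
        | zero => simpa using hLL'
        | succ i => induction i using Fin.cases with
          | zero => simpa using hLL'
          | succ i => simpa using hHH') hle, hsign]

/-- Euler characteristics unchanged by `L` kill the numbers with first entry `L`. -/
theorem alt_cons_eq_zero {r : ℕ} {L : X.Modules} {M : Fin r → X.Modules} {F : X.Modules}
    (h : ∀ I : Finset (Fin r), SurfPairing.χ k (PicF.cl F * PicF.cl L * ∏ i ∈ I, PicF.cl (M i)) =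
      SurfPairing.χ k (PicF.cl F * ∏ i ∈ I, PicF.cl (M i))) :
    alt k (r + 1) (Fin.cons L M) F = 0 := by
  rw [IntAlt.alt_succ]
  simp only [Fin.cons_zero, Fin.cons_succ]
  rw [IntAlt.alt_eq_sum k M F, IntAlt.alt_eq_sum k M (CohB1.tensorMod F L), cl_tensor, sub_eq_zero]
  exact Finset.sum_congr rfl fun I _ => by rw [h I]

/-- A curve with zero degree: the one-dimensional irreducible case. -/
theorem isNumEquivZero_dim_one [IrreducibleSpace X] (hdim : topologicalKrullDim X = 1) {L : X.Modules}
    (hL : PicF.IsInvertible L) (h : alt k 1 (Fin.cons L Fin.elim0) (Coh.structureModule X) = 0) :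
    Pic13.IsNumEquivZero k X L := by
  intro C ι _ hCi hC
  haveI := hCi
  haveI := CurveCohLib.isNoetherian_of_proper (k := k) (X := X)
  obtain ⟨hδ, m, hm, hmult⟩ := exists_mult_generic (k := k) (g := 1) (by rw [hdim, Nat.cast_one])
  have hLs : ∀ i, PicF.IsInvertible ((Fin.cons L Fin.elim0 : Fin 1 → X.Modules) i) := fun i => by
    induction i using Fin.cases with
    | zero => simpa using hL
    | succ i => exact i.elim0
  rw [hmult _ hLs, mul_eq_zero, or_iff_right hm.ne'] at h
  have hgen : ι (genericPoint C) = genericPoint X := by
    by_contra hne
    have h1 := (SnapLead.isDimFun k (genericPoint X) (ι (genericPoint C)) (genericPoint_specializes _)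
      (fun e => hne e.symm)).1
    rw [hδ, Pic13Lib.delta_generic_eq ι 1 (by rw [hC, Nat.cast_one])] at h1
    exact lt_irrefl _ h1
  obtain ⟨e⟩ := Pic13Lib.nonempty_closure_iso ι
  rw [curveDeg_eq_alt ι hC hL, neg_eq_zero, ← IntNumCycle.alt_congr k 1 _ e, hgen]
  exact h

end Groth.Agent.Pic13Lib.Hodge
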