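import Groth.Agent.Pic13Lib.MixedPos
import Groth.Agent.Pic13Lib.IntNum

/-!
# Degrees on integral curves over an arbitrary field
-/

set_option autoImplicit false
set_option linter.style.haveILetI false
set_option linter.unusedSectionVars false
set_option backward.isDefEq.respectTransparency false
set_option backward.isDefEq.respectTransparency.types false
set_option maxHeartbeats 400000

universe u

open CategoryTheory CategoryTheory.Limits AlgebraicGeometry
open Groth.Agent.H23 Groth.Agent.H23.PicMul
open Groth.Agent.H23.IntNumCycle (alt)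

attribute [local instance] PicMul.clMonoid

noncomputable section

namespace Groth.Agent.Pic13Lib.Hodge

variable {k : Type u} [Field k] {X : Scheme.{u}} [X.Over (Spec (CommRingCat.of k))]
  [IsProper (X ↘ Spec (CommRingCat.of k))] {Y : Scheme.{u}} (ι : Y ⟶ X) [IsClosedImmersion ι]
  (hdim : topologicalKrullDim Y = 1)

include hdim in
theorem cohLe_push_structure : Cyc.CohLe (SnapLead.δ k) ((0 + 1 : ℕ) : ℤ) ((Coh.push ι).obj (Coh.structureModule Y)) := by
  haveI := CurveCohLib.isNoetherian_of_proper (k := k) (X := X)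
  letI : Y.Over (Spec (CommRingCat.of k)) := ⟨ι ≫ (X ↘ Spec (CommRingCat.of k))⟩
  haveI : IsProper (Y ↘ Spec (CommRingCat.of k)) :=
    show IsProper (ι ≫ (X ↘ Spec (CommRingCat.of k))) from inferInstance
  exact numEq_pullback.cohLe_push ι rfl (TopInt.cohLe_structure k (g := 0 + 1) (by rw [hdim]; norm_num))

include hdim in
/-- The degree on a curve as an intersection number. -/
theorem curveDeg_eq_alt {L : X.Modules} (hL : PicF.IsInvertible L) :
    Pic13.curveDeg k (ι ≫ (X ↘ Spec (CommRingCat.of k))) ((Scheme.Modules.pullback ι).obj L) =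
      -alt k 1 (Fin.cons L Fin.elim0) ((Coh.push ι).obj (Coh.structureModule Y)) := by
  haveI := CurveCohLib.isNoetherian_of_proper (k := k) (X := X)
  rw [Pic13Lib.curveDeg_eq ι hdim L hL, IntAlt.alt_succ]
  simp only [Fin.cons_zero, IntNumCycle.alt]
  ring

include hdim in
theorem curveDeg_tensor {L M : X.Modules} (hL : PicF.IsInvertible L) (hM : PicF.IsInvertible M) :
    Pic13.curveDeg k (ι ≫ (X ↘ Spec (CommRingCat.of k))) ((Scheme.Modules.pullback ι).obj (CohB1.tensorMod L M)) =
      Pic13.curveDeg k (ι ≫ (X ↘ Spec (CommRingCat.of k))) ((Scheme.Modules.pullback ι).obj L) +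
        Pic13.curveDeg k (ι ≫ (X ↘ Spec (CommRingCat.of k))) ((Scheme.Modules.pullback ι).obj M) := by
  rw [curveDeg_eq_alt ι hdim hL, curveDeg_eq_alt ι hdim hM, curveDeg_eq_alt ι hdim (InvX.isInvertible_tensorMod hL hM),
    TopInt.alt_cons_mul k (fun i => i.elim0) hL hM (cohLe_push_structure ι hdim)]
  ring

include hdim in
theorem curveDeg_pow {L : X.Modules} (hL : PicF.IsInvertible L) (n : ℕ) :
    Pic13.curveDeg k (ι ≫ (X ↘ Spec (CommRingCat.of k))) ((Scheme.Modules.pullback ι).obj (CohB1.tensorPow L n)) =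
      n * Pic13.curveDeg k (ι ≫ (X ↘ Spec (CommRingCat.of k))) ((Scheme.Modules.pullback ι).obj L) := by
  rw [curveDeg_eq_alt ι hdim hL, curveDeg_eq_alt ι hdim (PicMul.isInvertible_tensorPow hL n),
    Pic13Lib.alt_cons_pow (fun i => i.elim0) hL (cohLe_push_structure ι hdim) n]
  ring

end Groth.Agent.Pic13Lib.Hodge
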