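import Groth.Agent.Pic13Lib.Hodge.PencilPts
import Groth.Agent.Pic13Lib.Hodge.Deg
import Groth.Agent.AmpleX.FiniteSet
import Groth.Agent.CurveBC.Coh
import Groth.Agent.Nakai.Section
import Groth.Agent.Nakai.Nef
import Groth.Agent.Pic13Lib.SectBound

/-!
# Reducing the dimension by the generic member of a pencil through a curve
-/

set_option autoImplicit false
set_option linter.style.haveILetI false
set_option linter.unusedSectionVars false
set_option backward.isDefEq.respectTransparency false
set_option backward.isDefEq.respectTransparency.types false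
set_option maxHeartbeats 1000000

universe u

open CategoryTheory CategoryTheory.Limits AlgebraicGeometry TopologicalSpace Opposite
open Groth.Agent.H23 Groth.Agent.H23.PicMul Groth.Agent.H23.TrivBasic
open Groth.Agent.H23.IntNumCycle (alt)

attribute [local instance] PicMul.clMonoid

noncomputable section

namespace Groth.Agent.Pic13Lib.Hodge.Pencil

variable {k : Type u} [Field k] {X : Scheme.{u}} [X.Over (Spec (CommRingCat.of k))]
  [IsProper (X ↘ Spec (CommRingCat.of k))]

theorem mem_locus_one {M : X.Modules} (t : Coh.structureModule X ⟶ M) (x : X) :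
    x ∈ locus (InvX.one t) ↔ x ∈ CohB1.genLocus _ t := by
  show x ∈ CohB1.genLocus _ (InvX.ofSect _) ↔ _
  rw [AVAmple.ofSect_one]

variable [IsIntegral X]

/-- Two sections vanishing on a curve with base locus of codimension two. -/
theorem exists_pencil {H : X.Modules} (hH : CohB1.IsAmple H) {C : Scheme.{u}} (ι : C ⟶ X) [IsClosedImmersion ι]
    (hC : topologicalKrullDim C = 1) {r : ℕ} (hr : 2 ≤ r) (hdim : topologicalKrullDim X = ((r + 1 : ℕ) : WithBot ℕ∞)) :
    ∃ (N : ℕ) (s₀ s₁ : Γ(CohB1.tensorPow H N, ⊤)), 0 < N ∧ genericPoint X ∈ locus s₀ ∧ genericPoint X ∈ locus s₁ ∧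
      (∀ c : C, ι c ∉ locus s₀ ∧ ι c ∉ locus s₁) ∧
      ∀ x, x ∉ locus s₀ → x ∉ locus s₁ → VarDim.deg (X ↘ Spec (CommRingCat.of k)) x + 1 ≤ r := by
  haveI := CurveCohLib.isNoetherian_of_proper (k := k) (X := X)
  haveI : X.IsSeparated := AmpleVan.isSeparated_of_proper (A := k)
  let f := X ↘ Spec (CommRingCat.of k)
  have hη : VarDim.deg f (genericPoint X) = r + 1 := by
    have h := (VarDim.topologicalKrullDim_eq_deg_genericPoint f).symm.trans hdim
    exact_mod_cast WithBot.coe_inj.1 h
  have hCdeg : ∀ x ∈ Set.range ι, VarDim.deg f x ≤ 1 := fun x hx => by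
    have h1 : topologicalKrullDim ↥(closure ({x} : Set X)) ≤ topologicalKrullDim C := by
      rw [(ι.isClosedEmbedding.isEmbedding.toHomeomorph).isHomeomorph.topologicalKrullDim_eq]
      exact ((Topology.IsEmbedding.inclusion (ι.isClosedEmbedding.isClosed_range.closure_subset_iff.2
        (Set.singleton_subset_iff.2 hx))).isInducing).topologicalKrullDim_le
    rw [VarDim.topologicalKrullDim_closure_singleton f, hC] at h1
    exact_mod_cast h1
  let U : X.Opens := ⟨(Set.range ι)ᶜ, ι.isClosedEmbedding.isClosed_range.isOpen_compl⟩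
  have hηU : genericPoint X ∈ U := fun h => by have := hCdeg _ h; omega
  obtain ⟨a, t₀, ht₀η, ht₀U, -⟩ := AmpleX.exists_finite_nhd hH (Set.finite_singleton (genericPoint X))
    (Set.singleton_subset_iff.2 hηU)
  let D : Set X := ((CohB1.genLocus _ t₀ : X.Opens) : Set X)ᶜ
  have hD : IsClosed D := (CohB1.genLocus _ t₀).isOpen.isClosed_compl
  have hdeg : ∀ z ∈ D, VarDim.deg f z ≤ r := fun z hz => by
    have h1 : z ∈ closure ({genericPoint X} : Set X) := specializes_iff_mem_closure.1 (genericPoint_specializes z)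
    have h2 := NefCrit.deg_lt_of_mem_closure (k := k) h1 (fun h => hz (h ▸ ht₀η rfl))
    simp only [f] at hη ⊢
    omega
  let Z : Set X := {z ∈ D | VarDim.deg f z = r}
  have hZ : Z.Finite := by
    haveI : NoetherianSpace ↥D := inferInstance
    have hfin : (irreducibleComponents ↥D).Finite := NoetherianSpace.finite_irreducibleComponents
    haveI : QuasiSober ↥D := hD.isClosedEmbedding_subtypeVal.quasiSober
    haveI : Finite ↥(irreducibleComponents ↥D) := hfin.to_subtype
    refine Set.Finite.subset (Set.finite_range fun W : irreducibleComponents ↥D => (W.2.1.genericPoint : ↥D).1)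
      fun z hz => ?_
    obtain ⟨W, hW, hzW⟩ : ∃ W ∈ irreducibleComponents ↥D, (⟨z, hz.1⟩ : ↥D) ∈ W :=
      ⟨irreducibleComponent _, irreducibleComponent_mem_irreducibleComponents _, mem_irreducibleComponent⟩
    refine ⟨⟨W, hW⟩, VarDim.eq_of_specializes_of_deg_le f ?_ ?_⟩
    · exact ((hW.1.isGenericPoint_genericPoint (isClosed_of_mem_irreducibleComponents W hW)).specializes hzW).map
        continuous_subtype_val
    · rw [hz.2]; exact hdeg _ (hW.1.genericPoint : ↥D).2
  obtain ⟨b, t₁, ht₁Z, ht₁U, -⟩ := AmpleX.exists_finite_nhd hH (hZ.insert (genericPoint X))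
    (Set.insert_subset hηU fun z hz hzC => by have := hCdeg z hzC; have := hz.2; simp only [f] at *; omega)
  obtain ⟨u₀, hu₀⟩ := AmpleX.exists_section_of_cl_eq (B := CohB1.tensorPow H ((a + 1) * (b + 1)))
    (by rw [cl_tensorPow, cl_tensorPow, cl_tensorPow, ← pow_mul]) (InvX.powHom t₀ (b + 1))
  obtain ⟨u₁, hu₁⟩ := AmpleX.exists_section_of_cl_eq (B := CohB1.tensorPow H ((a + 1) * (b + 1)))
    (by rw [cl_tensorPow, cl_tensorPow, cl_tensorPow, ← pow_mul, mul_comm (b + 1)]) (InvX.powHom t₁ (a + 1))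
  rw [InvX.genLocus_powHom (InvX.isInvertible_tensorPow hH.1 _)] at hu₀ hu₁
  have m0 : ∀ x, x ∈ locus (InvX.one u₀) ↔ x ∈ CohB1.genLocus _ t₀ := fun x => by rw [mem_locus_one, hu₀]
  have m1 : ∀ x, x ∈ locus (InvX.one u₁) ↔ x ∈ CohB1.genLocus _ t₁ := fun x => by rw [mem_locus_one, hu₁]
  refine ⟨(a + 1) * (b + 1), InvX.one u₀, InvX.one u₁, Nat.mul_pos a.succ_pos b.succ_pos,
    (m0 _).2 (ht₀η rfl), (m1 _).2 (ht₁Z (Set.mem_insert _ _)),
    fun c => ⟨fun h => ht₀U ((m0 _).1 h) ⟨c, rfl⟩, fun h => ht₁U ((m1 _).1 h) ⟨c, rfl⟩⟩, fun x h0 h1 => ?_⟩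
  have hxD : x ∈ D := fun h => h0 ((m0 _).2 h)
  have := hdeg x hxD
  by_contra hlt
  exact h1 ((m1 _).2 (ht₁Z (Set.mem_insert_of_mem _ ⟨hxD, by simp only [f] at *; omega⟩)))

omit [IsIntegral X] in
/-- Intersection numbers are unchanged by the extension to rational functions. -/
theorem alt_prj {r : ℕ} {M : Fin r → X.Modules} (hM : ∀ i, PicF.IsInvertible (M i)) :
    alt (RatFunc k) r (fun i => (Scheme.Modules.pullback (prj k X)).obj (M i)) (Coh.structureModule (XK k X)) =
      alt k r M (Coh.structureModule X) := by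
  classical
  haveI := CurveCohLib.isNoetherian_of_proper (k := k) (X := X)
  haveI : QuasiSeparatedSpace X := quasiSeparatedSpace_of_quasiSeparated (X ↘ Spec (CommRingCat.of k))
  rw [IntAlt.alt_eq_sum, IntAlt.alt_eq_sum]
  refine Finset.sum_congr rfl fun I hI => congrArg _ ?_
  clear hI
  obtain ⟨P, hP, hPc⟩ : ∃ P : X.Modules, PicF.IsInvertible P ∧ PicF.cl P = ∏ i ∈ I, PicF.cl (M i) := by
    induction I using Finset.induction with
    | empty => exact ⟨_, InvX.isInvertible_structureModule, PicMul.one_def.symm⟩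
    | insert i I hi ih =>
      obtain ⟨P, hP, hPc⟩ := ih
      exact ⟨_, InvX.isInvertible_tensorMod (hM i) hP, by rw [cl_tensor, hPc, Finset.prod_insert hi]⟩
  have hpull : ∏ i ∈ I, PicF.cl ((Scheme.Modules.pullback (prj k X)).obj (M i)) =
      PicF.pullCl (prj k X) (PicF.cl P) := by
    rw [hPc]
    show ∏ i ∈ I, PicF.pullCl (prj k X) (PicF.cl (M i)) = _
    clear hPc hP P
    induction I using Finset.induction with
    | empty => rw [Finset.prod_empty, Finset.prod_empty, PicMul.pullCl_one]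
    | insert i I hi ih => rw [Finset.prod_insert hi, Finset.prod_insert hi, PicMul.pullCl_mul, ih]
  rw [hpull, ← hPc, ← PicMul.one_def, ← PicMul.one_def, one_mul, one_mul]
  show SurfPairing.χ _ (PicF.cl ((Scheme.Modules.pullback (prj k X)).obj P)) = _
  rw [SurfPairing.χ_cl, SurfPairing.χ_cl]
  exact CurveBC.euler_eq k (RatFunc k) (prj k X) (isPullback_prj k X) P (AmpleVan.isCoh_invertible hP).1

omit [IsIntegral X] in
/-- A curve, extended to rational functions, with its degrees. -/
theorem exists_curve_XK {C : Scheme.{u}} (ι : C ⟶ X) [IsClosedImmersion ι] [IsIntegral C]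
    (hC : topologicalKrullDim C = 1) :
    ∃ (C' : Scheme.{u}) (ι' : C' ⟶ XK k X), IsClosedImmersion ι' ∧ IsIntegral C' ∧ topologicalKrullDim C' = 1 ∧
      (∀ c, prj k X (ι' c) ∈ Set.range ι) ∧
      ∀ L : X.Modules, PicF.IsInvertible L →
        Pic13.curveDeg (RatFunc k) (ι' ≫ (XK k X ↘ Spec (CommRingCat.of (RatFunc k))))
            ((Scheme.Modules.pullback ι').obj ((Scheme.Modules.pullback (prj k X)).obj L)) =
          Pic13.curveDeg k (ι ≫ (X ↘ Spec (CommRingCat.of k))) ((Scheme.Modules.pullback ι).obj L) := by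
  letI : C.Over (Spec (CommRingCat.of k)) := ⟨ι ≫ (X ↘ Spec (CommRingCat.of k))⟩
  haveI : IsProper (C ↘ Spec (CommRingCat.of k)) :=
    show IsProper (ι ≫ (X ↘ Spec (CommRingCat.of k))) from inferInstance
  let ι' : XK k C ⟶ XK k X :=
    pullback.map _ _ _ _ ι (𝟙 _) (𝟙 _) (by rw [Category.comp_id]; rfl) (by simp)
  have e1 : ι' ≫ prj k X = prj k C ≫ ι := pullback.lift_fst _ _ _
  have e2 : ι' ≫ (XK k X ↘ Spec (CommRingCat.of (RatFunc k))) = XK k C ↘ Spec (CommRingCat.of (RatFunc k)) :=
    (pullback.lift_snd _ _ _).trans (Category.comp_id _)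
  have hpb : IsPullback ι' (prj k C) (prj k X) ι :=
    IsPullback.of_right (by rw [e2]; exact (isPullback_prj k C).flip) e1 (isPullback_prj k X).flip
  haveI : IsClosedImmersion ι' := MorphismProperty.of_isPullback hpb.flip inferInstance
  haveI := isIntegral_XK (k := k) (X := C)
  have hd : topologicalKrullDim (XK k C) = 1 := (dim_XK (k := k) (X := C)).trans hC
  refine ⟨_, ι', inferInstance, inferInstance, hd, fun c => ⟨prj k C c, ?_⟩, fun L hL => ?_⟩
  · rw [← Scheme.Hom.comp_apply, ← e1, Scheme.Hom.comp_apply]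
  haveI := CurveCohLib.isNoetherian_of_proper (k := k) (X := C)
  haveI := CurveCohLib.isNoetherian_of_proper (k := RatFunc k) (X := XK k C)
  haveI : QuasiSeparatedSpace C := quasiSeparatedSpace_of_quasiSeparated (C ↘ Spec (CommRingCat.of k))
  have hd' : topologicalKrullDim (XK k C) ≤ ((1 : ℕ) : WithBot ℕ∞) := by rw [hd, Nat.cast_one]
  have hC' : topologicalKrullDim C ≤ ((1 : ℕ) : WithBot ℕ∞) := by rw [hC, Nat.cast_one]
  have hLC := PicClLib.isInvertible_pullback ι hL
  have hLK := PicClLib.isInvertible_pullback ι' (PicClLib.isInvertible_pullback (prj k X) hL)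
  obtain ⟨w⟩ : Nonempty ((Scheme.Modules.pullback ι').obj ((Scheme.Modules.pullback (prj k X)).obj L) ≅
      (Scheme.Modules.pullback (prj k C)).obj ((Scheme.Modules.pullback ι).obj L)) :=
    ⟨(Scheme.Modules.pullbackComp _ _).app _ ≪≫ (Scheme.Modules.pullbackCongr e1).app _ ≪≫
      ((Scheme.Modules.pullbackComp _ _).app _).symm⟩
  have hO : Coh.IsCoh (Coh.structureModule C) := QCoh.isCoh_structureModule'
  have hOK : Coh.IsCoh (Coh.structureModule (XK k C)) := QCoh.isCoh_structureModule'
  rw [e2]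
  show @FGA.eulerCharLE (RatFunc k) _ (XK k C) _ _ 1 - @FGA.eulerCharLE (RatFunc k) _ (XK k C) _ _ 1 =
    FGA.eulerCharLE k C _ 1 - FGA.eulerCharLE k C _ 1
  rw [Pic13Lib.eulerCharLE_eq hd' (AmpleVan.isCoh_invertible hLK).1, Pic13Lib.eulerCharLE_eq hd' hOK.1,
    Pic13Lib.eulerCharLE_eq hC' (AmpleVan.isCoh_invertible hLC).1, Pic13Lib.eulerCharLE_eq hC' hO.1,
    CurveCohLib.euler_congr (k := RatFunc k) w, ← CurveCohLib.euler_congr (k := RatFunc k) (CurveBC.unitIso (prj k C)),
    CurveBC.euler_eq k (RatFunc k) (prj k C) (isPullback_prj k C) _ (AmpleVan.isCoh_invertible hLC).1,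
    CurveBC.euler_eq k (RatFunc k) (prj k C) (isPullback_prj k C) _ hO.1]

/-- One step: an integral scheme of one dimension less over rational functions, through a given curve. -/
theorem exists_step {H : X.Modules} (hH : CohB1.IsAmple H) {C : Scheme.{u}} (ι : C ⟶ X) [IsClosedImmersion ι]
    [IsIntegral C] (hC : topologicalKrullDim C = 1) {r : ℕ} (hr : 2 ≤ r)
    (hdim : topologicalKrullDim X = ((r + 1 : ℕ) : WithBot ℕ∞)) :
    ∃ (Y : Scheme.{u}) (_ : Y.Over (Spec (CommRingCat.of (RatFunc k))))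
      (_ : IsProper (Y ↘ Spec (CommRingCat.of (RatFunc k)))) (g : Y ⟶ X) (C' : Scheme.{u}) (ι' : C' ⟶ Y)
      (a : ℤ), IsIntegral Y ∧ topologicalKrullDim Y = (r : ℕ) ∧ IsClosedImmersion ι' ∧ IsIntegral C' ∧
      topologicalKrullDim C' = 1 ∧ CohB1.IsAmple ((Scheme.Modules.pullback g).obj H) ∧ 0 < a ∧
      (∀ L : X.Modules, PicF.IsInvertible L →
        Pic13.curveDeg (RatFunc k) (ι' ≫ (Y ↘ Spec (CommRingCat.of (RatFunc k))))
            ((Scheme.Modules.pullback ι').obj ((Scheme.Modules.pullback g).obj L)) =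
          Pic13.curveDeg k (ι ≫ (X ↘ Spec (CommRingCat.of k))) ((Scheme.Modules.pullback ι).obj L)) ∧
      ∃ b : ℤ, 0 < b ∧ ∀ M : Fin r → X.Modules, (∀ i, PicF.IsInvertible (M i)) →
        a * alt (RatFunc k) r (fun i => (Scheme.Modules.pullback g).obj (M i)) (Coh.structureModule Y) =
          -(b * alt k (r + 1) (Fin.cons H M) (Coh.structureModule X)) := by
  classical
  haveI := CurveCohLib.isNoetherian_of_proper (k := k) (X := X)
  obtain ⟨N, s₀, s₁, hN, hη₀, hη₁, hsC, hbase⟩ := exists_pencil (k := k) hH ι hC hr hdim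
  let K := RatFunc k
  let p := prj k X
  let T := XK k X
  let q := T ↘ Spec (CommRingCat.of K)
  haveI : IsIntegral T := isIntegral_XK
  haveI : IsAffineHom p := MorphismProperty.pullback_fst _ _ (show IsAffineHom (base k) from inferInstance)
  haveI := CurveCohLib.isNoetherian_of_proper (k := K) (X := T)
  have hdimT : topologicalKrullDim T = ((r + 1 : ℕ) : WithBot ℕ∞) := dim_XK.trans hdim
  have hHN := InvX.isInvertible_tensorPow hH.1 N
  let P := (Scheme.Modules.pullback p).obj (CohB1.tensorPow H N)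
  have hP : PicF.IsInvertible P := PicClLib.isInvertible_pullback p hHN
  let σ : Γ(P, ⊤) := sec (k := k) s₀ s₁
  have hgen : genericPoint T ∈ locus σ := by
    obtain ⟨g, -, -, hg⟩ := exists_fibre_gen (k := k) hHN s₀ s₁ (genericPoint X)
    exact (genericPoint_specializes g).mem_open (locus σ).isOpen (hg (Or.inl hη₀))
  have hσ : σ ≠ 0 := fun h => by
    obtain ⟨U, hU, hUf⟩ := mem_locus_iff.1 hgen
    rw [h, map_zero] at hUf
    haveI : Nonempty U := ⟨⟨_, hU⟩⟩
    exact zero_ne_one (hUf.coord_unique le_rfl (r := (0 : Γ(T, U))) (r' := 1) (by simp))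
  let f := InvX.ofSect σ
  haveI := CurveAmple.mono_ofSect hP hσ
  let S := ShortComplex.mk f (cokernel.π f) (cokernel.condition f)
  have hS : S.ShortExact :=
    .mk' (ShortComplex.exact_of_g_is_cokernel _ (cokernelIsCokernel f)) inferInstance inferInstance
  have hOc : Coh.IsCoh (Coh.structureModule T) := QCoh.isCoh_structureModule'
  have hPc := AmpleVan.isCoh_invertible hP
  have hQc : Coh.IsCoh (cokernel f) := QCoh.isCoh_cokernel hOc.1 hPc f
  have hsupp : ∀ z, z ∈ CohB1.support (cokernel f) → z ∉ locus σ := fun z hz => CurveAmple.support_cokernel_subset σ hz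
  have hQ : Cyc.CohLe (SnapLead.δ K) r (cokernel f) := by
    refine ⟨hQc, fun z hz => ?_⟩
    have hzl : z ∉ locus σ := hsupp z (not_subsingleton_iff_nontrivial.2 hz)
    have h := (SnapLead.isDimFun K (genericPoint T) z (genericPoint_specializes z) (fun e => hzl (e ▸ hgen))).1
    rw [TopInt.delta_generic K hdimT] at h
    push_cast at h
    omega
  -- a point of maximal dimension of the zero set lies over the generic point
  have hover : ∀ z, z ∉ locus σ → r ≤ VarDim.deg q z → p z = genericPoint X := by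
    intro z hz hzr
    by_contra hne
    obtain ⟨g, hpg, hgz, hgl⟩ := exists_fibre_gen (k := k) hHN s₀ s₁ (p z)
    have hpd : VarDim.deg (X ↘ Spec (CommRingCat.of k)) (p z) ≤ r := by
      have h2 := NefCrit.deg_lt_of_mem_closure (k := k)
        (specializes_iff_mem_closure.1 (genericPoint_specializes (p z))) hne
      have hη : VarDim.deg (X ↘ Spec (CommRingCat.of k)) (genericPoint X) = r + 1 := by
        have h := (VarDim.topologicalKrullDim_eq_deg_genericPoint (X ↘ Spec (CommRingCat.of k))).symm.trans hdim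
        exact_mod_cast WithBot.coe_inj.1 h
      omega
    by_cases hb : p z ∈ locus s₀ ∨ p z ∈ locus s₁
    · have h1 := hgl hb
      have h2 := NefCrit.deg_lt_of_mem_closure (k := K) (specializes_iff_mem_closure.1 (hgz z rfl))
        (fun h => hz (h ▸ h1))
      have h3 := deg_le (k := k) g
      rw [hpg] at h3
      simp only [q, T, K] at hzr h2 ⊢
      omega
    · push_neg at hb
      have h1 := hbase (p z) hb.1 hb.2
      have h3 := deg_le (k := k) z
      simp only [q, T, K, p] at hzr h1 ⊢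
      omega
  have huniq : ∀ z z', z ∉ locus σ → z' ∉ locus σ → r ≤ VarDim.deg q z → r ≤ VarDim.deg q z' → z = z' := by
    intro z z' hz hz' h h'
    exact eq_of_prj_eq hHN s₀ s₁ ((hover z hz h).trans (hover z' hz' h').symm)
      ((hover z hz h).symm ▸ hη₁) hz hz'
  -- the curve
  obtain ⟨C', ιK, hιK, hC'i, hC'd, hC'X, hdegK⟩ := exists_curve_XK (k := k) ι hC
  haveI := hιK
  haveI := hC'i
  have hCσ : ∀ c, ιK c ∉ locus σ := by
    intro c hc
    obtain ⟨U, hxU, ε, hε⟩ := InvX.exists_frame hHN (p (ιK c))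
    obtain ⟨W, hW, hxW, hWU⟩ := exists_isAffineOpen_mem_and_subset hxU
    let ε' := AModX.res (CohB1.tensorPow H N) (show W ≤ U from hWU) ε
    have hε' : InvX.IsFrame ε' := hε.res _
    obtain ⟨f₀, h₀⟩ := hε'.exists_coord le_rfl (AModX.res _ (le_top : W ≤ ⊤) s₀)
    obtain ⟨f₁, h₁⟩ := hε'.exists_coord le_rfl (AModX.res _ (le_top : W ≤ ⊤) s₁)
    rw [AModX.res_self] at h₀ h₁
    have h := (locus_eq_basicOpen (InvX.isFrame_pullElt p hε') (res_sec (k := k) s₀ s₁ h₀ h₁)).le ⟨hc, hxW⟩
    obtain ⟨c₀, hc₀⟩ := hC'X c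
    have key : ∀ (s : Γ(CohB1.tensorPow H N, ⊤)) (g : Γ(X, W)), AModX.res _ (le_top : W ≤ ⊤) s = g • ε' →
        ι c₀ ∉ locus s → ιK c ∉ (XK k X).basicOpen ((prj k X).app W g) := fun s g hs hn hx => by
      rw [← Scheme.preimage_basicOpen] at hx
      have h2 := (locus_eq_basicOpen hε' hs).ge (show p (ιK c) ∈ X.basicOpen g from hx)
      exact hn (hc₀ ▸ h2.1)
    have k0 := key s₀ f₀ h₀ (hsC c₀).1
    have k1 := key s₁ f₁ h₁ (hsC c₀).2
    exact ((XK k X).basicOpen_add_le _ _ h).elim k0 fun h' => k1 (((XK k X).basicOpen_mul _ _).le h').2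
  -- the component through the curve
  obtain ⟨ξ, hξ, hξc, hξd⟩ : ∃ ξ, ξ ∉ locus σ ∧ ξ ⤳ ιK (genericPoint C') ∧ VarDim.deg q ξ = r := by
    let D : Set T := ((locus σ : T.Opens) : Set T)ᶜ
    have hD : IsClosed D := (locus σ).isOpen.isClosed_compl
    haveI : QuasiSober ↥D := hD.isClosedEmbedding_subtypeVal.quasiSober
    obtain ⟨W, hW, hcW⟩ : ∃ W ∈ irreducibleComponents ↥D, (⟨_, hCσ (genericPoint C')⟩ : ↥D) ∈ W :=
      ⟨irreducibleComponent _, irreducibleComponent_mem_irreducibleComponents _, mem_irreducibleComponent⟩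
    have hgen' := hW.1.isGenericPoint_genericPoint (isClosed_of_mem_irreducibleComponents W hW)
    refine ⟨(hW.1.genericPoint : ↥D).1, (hW.1.genericPoint : ↥D).2,
      (hgen'.specializes hcW).map continuous_subtype_val, ?_⟩
    have hη : VarDim.deg q (genericPoint T) = r + 1 := by
      have h := (VarDim.topologicalKrullDim_eq_deg_genericPoint q).symm.trans hdimT
      exact_mod_cast WithBot.coe_inj.1 h
    have h := deg_add_one_of_maximal q hP hgen (hW.1.genericPoint : ↥D).2 fun y hy hyD => by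
      have hy' : (⟨y, hyD⟩ : ↥D) ⤳ hW.1.genericPoint := (subtype_specializes_iff _ _).2 hy
      have hsub : W ⊆ closure {(⟨y, hyD⟩ : ↥D)} := by
        rw [← hgen'.def]
        exact closure_minimal (Set.singleton_subset_iff.2 (specializes_iff_mem_closure.1 hy')) isClosed_closure
      have hWy : closure {(⟨y, hyD⟩ : ↥D)} ⊆ W := hW.2 isIrreducible_singleton.closure hsub
      exact congrArg Subtype.val ((hgen'.specializes (hWy (subset_closure rfl))).antisymm hy').eq.symm
    omega
  have hξδ : SnapLead.δ K ξ = (r : ℤ) := by rw [NumTriv.delta_eq_deg, hξd]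
  let Y := (IntMult.ptIdeal ξ).subscheme
  let j : Y ⟶ T := (IntMult.ptIdeal ξ).subschemeι
  haveI : IsIntegral Y := QCoh.isIntegral_closure_point ξ
  letI : Y.Over (Spec (CommRingCat.of K)) := ⟨j ≫ q⟩
  haveI : IsProper (Y ↘ Spec (CommRingCat.of K)) := show IsProper (j ≫ q) from inferInstance
  haveI := CurveCohLib.isNoetherian_of_proper (k := K) (X := Y)
  have hrange : Set.range j = closure {ξ} := by
    rw [Scheme.IdealSheafData.range_subschemeι, IntMult.ptIdeal, Scheme.IdealSheafData.coe_support_vanishingIdeal]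
    rfl
  have hdimY : topologicalKrullDim Y = (r : ℕ) := by
    refine (IsHomeomorph.topologicalKrullDim_eq _
      (j.isClosedEmbedding.isEmbedding.toHomeomorph.isHomeomorph)).trans ?_
    rw [hrange]
    exact (IntAlt.delta_eq_iff K ξ r).2 hξδ
  haveI : IsReduced ιK.image := (S2266.result ιK).1
  haveI : IsReduced ιK.ker.subscheme := ‹IsReduced ιK.image›
  have hkle : j.ker ≤ ιK.ker := by
    rw [Scheme.IdealSheafData.ker_subschemeι, IntMult.ptIdeal]
    refine le_trans (Scheme.IdealSheafData.vanishingIdeal_antimono ?_)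
      (AlgSpLib.CartierRegular.eq_vanishingIdeal_support ιK.ker).ge
    intro z hz
    replace hz : z ∈ (ιK.ker.support : Set T) := hz
    rw [Scheme.Hom.support_ker] at hz
    refine closure_minimal ?_ isClosed_closure hz
    rintro _ ⟨c, rfl⟩
    exact specializes_iff_mem_closure.1 (hξc.trans ((genericPoint_specializes c).map ιK.continuous))
  let ι' : C' ⟶ Y := IsClosedImmersion.lift j ιK hkle
  have hι' : ι' ≫ j = ιK := IsClosedImmersion.lift_fac _ _ _
  haveI : IsClosedImmersion ι' := by
    haveI : IsClosedImmersion (ι' ≫ j) := by rw [hι']; infer_instance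
    exact IsClosedImmersion.of_comp ι' j
  haveI : CompactSpace Y := QuasiCompact.compactSpace_of_compactSpace (j ≫ q)
  let c := Cyc.sheafFun (SnapLead.δ K) r (cokernel f) ξ
  have hc : 0 < c := by
    refine (CycleClassK.sheafFun_nonneg _ _ _ _).lt_of_ne (Ne.symm ?_)
    exact (PeriodicRat.nontrivial_iff_sheafFun (SnapLead.isDimFun K) hQ).2
      ⟨hξδ, not_subsingleton_iff_nontrivial.1 (TopInt.mem_support_cokernel hP σ hξ)⟩
  refine ⟨Y, ⟨j ≫ q⟩, inferInstance, j ≫ p, C', ι', c, inferInstance, hdimY, inferInstance, inferInstance, hC'd,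
    AmpleVan.FiniteSurj.isAmple_pullback_of_isAffineHom (j ≫ p) hH, hc, fun L hL => ?_, N, by exact_mod_cast hN,
    fun M hM => ?_⟩
  · rw [← hdegK L hL]
    show Pic13.curveDeg K (ι' ≫ j ≫ q) _ = _
    rw [← Category.assoc, hι']
    exact NumTriv.curveDeg_congr K _ ((Scheme.Modules.pullbackComp _ _).app _ ≪≫
      (Scheme.Modules.pullbackCongr (by rw [← Category.assoc, hι'])).app _ ≪≫
      ((Scheme.Modules.pullbackComp _ _).app _).symm)
  · let MK : Fin r → T.Modules := fun i => (Scheme.Modules.pullback p).obj (M i)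
    have hMK : ∀ i, PicF.IsInvertible (MK i) := fun i => PicClLib.isInvertible_pullback p (hM i)
    have hsum : alt K r MK (cokernel f) = c * alt K r MK (Cyc.closureStructureSheaf ξ) := by
      rw [IntAlt.alt_eq_sum_closure K hMK hQ {ξ} (fun z hz => by rw [Finset.mem_singleton.1 hz, hξδ])
        (fun z hz => Finset.mem_singleton.2 ?_), Finset.sum_singleton]
      obtain ⟨hzd, hzn⟩ := CycleClassK.nontrivial_of_sheafFun hz
      refine huniq z ξ (hsupp z (not_subsingleton_iff_nontrivial.2 hzn)) hξ ?_ hξd.ge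
      rw [NumTriv.delta_eq_deg] at hzd
      exact_mod_cast hzd.ge
    have hclo : alt K r MK (Cyc.closureStructureSheaf ξ) =
        alt K r (fun i => (Scheme.Modules.pullback (j ≫ p)).obj (M i)) (Coh.structureModule Y) := by
      rw [← IntAlt.alt_congr_cl K (M := fun i => (Scheme.Modules.pullback j).obj (MK i)) fun i =>
          cl_eq_iff.2 ⟨(Scheme.Modules.pullbackComp j p).app (M i)⟩,
        Pic13Lib.alt_push j rfl hMK (TopInt.cohLe_structure K hdimY.le)]
      rfl
    have hadd := IntNumCycle.alt_add K r MK hMK hS hOc hPc hQc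
    have hOL : alt K r MK (CohB1.tensorMod (Coh.structureModule T) P) = alt K r MK P := by
      rw [IntAlt.alt_eq_sum, IntAlt.alt_eq_sum, cl_tensor, ← PicMul.one_def, one_mul]
    have h1 : alt K (r + 1) (Fin.cons P MK) (Coh.structureModule T) = -alt K r MK (cokernel f) := by
      rw [IntAlt.alt_succ]
      simp only [Fin.cons_zero, Fin.cons_succ]
      rw [hOL, hadd]
      ring
    have h2 : (Fin.cons P MK : Fin (r + 1) → T.Modules) = fun i => (Scheme.Modules.pullback p).obj
        ((Fin.cons (CohB1.tensorPow H N) M : Fin (r + 1) → X.Modules) i) := funext fun i => by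
      induction i using Fin.cases <;> simp [P, MK]
    rw [h2, alt_prj (k := k) (M := Fin.cons (CohB1.tensorPow H N) M) (fun i => by
      induction i using Fin.cases with
      | zero => simpa using hHN
      | succ i => simpa using hM i), Pic13Lib.alt_cons_pow hM hH.1 (TopInt.cohLe_structure k hdim.le) N, hsum,
      hclo] at h1
    show c * alt K r (fun i => (Scheme.Modules.pullback (j ≫ p)).obj (M i)) (Coh.structureModule Y) = _
    linarith

end Groth.Agent.Pic13Lib.Hodge.Pencil
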