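import Groth.Agent.Pic13Lib.Hodge.Surf
import Groth.Agent.Pic13Lib.Hodge.PencilStep
import Groth.Agent.Lib.AmpleEmbedPow

/-!
# The Hodge index theorem on integral projective schemes over any field
-/

set_option autoImplicit false
set_option linter.style.haveILetI false
set_option linter.unusedSectionVars false
set_option backward.isDefEq.respectTransparency false
set_option backward.isDefEq.respectTransparency.types false
set_option maxHeartbeats 1000000

universe u

open CategoryTheory CategoryTheory.Limits AlgebraicGeometry TopologicalSpace Opposite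
open Groth.Agent.H23 Groth.Agent.H23.PicMul
open Groth.Agent.H23.IntNumCycle (alt)

attribute [local instance] PicMul.clMonoid

noncomputable section

namespace Groth.Agent.Pic13Lib.Hodge

/-- Exchanging the first two factors. -/
theorem alt_swap {k : Type u} [Field k] {X : Scheme.{u}} [X.Over (Spec (CommRingCat.of k))]
    [IsProper (X ↘ Spec (CommRingCat.of k))] {r : ℕ} (A B : X.Modules) (M : Fin r → X.Modules) (F : X.Modules) :
    alt k (r + 2) (Fin.cons A (Fin.cons B M)) F = alt k (r + 2) (Fin.cons B (Fin.cons A M)) F := by
  rw [← IntAlt.alt_perm k (Equiv.swap (0 : Fin (r + 2)) 1) (Fin.cons B (Fin.cons A M)) F]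
  congr 1
  funext i
  induction i using Fin.cases with
  | zero =>
    rw [Equiv.swap_apply_left, show (1 : Fin (r + 2)) = (0 : Fin (r + 1)).succ from rfl]
    simp only [Fin.cons_succ, Fin.cons_zero]
  | succ j =>
    induction j using Fin.cases with
    | zero =>
      rw [show (0 : Fin (r + 1)).succ = (1 : Fin (r + 2)) from rfl, Equiv.swap_apply_right,
        show (1 : Fin (r + 2)) = (0 : Fin (r + 1)).succ from rfl]
      simp only [Fin.cons_succ, Fin.cons_zero]
    | succ l =>
      rw [Equiv.swap_apply_of_ne_of_ne (Fin.succ_ne_zero _) (by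
        rw [show (1 : Fin (r + 2)) = (0 : Fin (r + 1)).succ from rfl]
        exact fun h => Fin.succ_ne_zero l (Fin.succ_inj.1 h))]
      simp only [Fin.cons_succ]

/-- The pairing as an alternating sum. -/
theorem alt_two {k : Type u} [Field k] {X : Scheme.{u}} [X.Over (Spec (CommRingCat.of k))]
    [IsProper (X ↘ Spec (CommRingCat.of k))] (A B : X.Modules) :
    alt k 2 (Fin.cons A (Fin.cons B Fin.elim0)) (Coh.structureModule X) =
      SurfPairing.pair k (PicF.cl A) (PicF.cl B) := by
  rw [IntAlt.alt_succ]
  simp only [Fin.cons_zero, Fin.cons_succ]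
  rw [IntAlt.alt_succ, IntAlt.alt_succ]
  simp only [Fin.cons_zero, IntNumCycle.alt, ← SurfPairing.χ_cl, cl_tensor, ← PicMul.one_def, one_mul, SurfPairing.pair]
  ring

/-- The surface case over an infinite field. -/
theorem index_surface {k : Type u} [Field k] [Infinite k] {X : Scheme.{u}} [X.Over (Spec (CommRingCat.of k))]
    [IsProper (X ↘ Spec (CommRingCat.of k))] [IsIntegral X] (hdim : topologicalKrullDim X = 2)
    {H L : X.Modules} (hH : CohB1.IsAmple H) (hL : PicF.IsInvertible L)
    (h1 : SurfPairing.pair k (PicF.cl L) (PicF.cl H) = 0) (h2 : 0 ≤ SurfPairing.pair k (PicF.cl L) (PicF.cl L)) :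
    Pic13.IsNumEquivZero k X L := by
  obtain ⟨n, i, a, -, hi, hcomp, ⟨e⟩⟩ := AmpleEmbedPow.exists_closedImmersion (X ↘ Spec (CommRingCat.of k)) hH
  haveI := hi
  refine isNumEquivZero_surface i hcomp hdim hL ?_ h2
  rw [tw_eq, cl_eq_iff.2 ⟨e⟩, SurfAmple.pair_pow hdim.le hL hH.1 a, h1, mul_zero]

/-- The index theorem in every dimension, in terms of alternating sums. -/
theorem index_alt : ∀ (s : ℕ) (k : Type u) [Field k] (X : Scheme.{u}) [X.Over (Spec (CommRingCat.of k))]
    [IsProper (X ↘ Spec (CommRingCat.of k))] [IsIntegral X], topologicalKrullDim X = ((s + 2 : ℕ) : WithBot ℕ∞) →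
    ∀ (H L : X.Modules), CohB1.IsAmple H → PicF.IsInvertible L →
      alt k (s + 2) (Fin.cons L fun _ => H) (Coh.structureModule X) = 0 →
      0 ≤ (-1 : ℤ) ^ s * alt k (s + 2) (Fin.cons L (Fin.cons L fun _ => H)) (Coh.structureModule X) →
      Pic13.IsNumEquivZero k X L := by
  intro s
  induction s with
  | zero =>
    intro k _ X _ _ _ hdim H L hH hL h1 h2 C ι _ hCi hC
    haveI := hCi
    obtain ⟨C', ι', hι', hC'i, hC'd, -, hdeg⟩ := Pencil.exists_curve_XK (k := k) ι hC
    haveI := hι'
    rw [← hdeg L hL]
    haveI : IsIntegral (Pencil.XK k X) := Pencil.isIntegral_XK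
    haveI : CompactSpace (Pencil.XK k X) :=
      QuasiCompact.compactSpace_of_compactSpace (Pencil.XK k X ↘ Spec (CommRingCat.of (RatFunc k)))
    haveI : Infinite (RatFunc k) := Infinite.of_injective _ (RatFunc.algebraMap_injective k)
    haveI : IsAffineHom (Pencil.prj k X) :=
      MorphismProperty.pullback_fst _ _ (show IsAffineHom (Pencil.base k) from inferInstance)
    have hp : ∀ A B : X.Modules, PicF.IsInvertible A → PicF.IsInvertible B →
        SurfPairing.pair (RatFunc k) (PicF.cl ((Scheme.Modules.pullback (Pencil.prj k X)).obj A))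
          (PicF.cl ((Scheme.Modules.pullback (Pencil.prj k X)).obj B)) =
        alt k 2 (Fin.cons A (Fin.cons B Fin.elim0)) (Coh.structureModule X) := fun A B hA hB => by
      rw [← Pencil.alt_prj (k := k) (M := Fin.cons A (Fin.cons B Fin.elim0)) (fun j => by
        induction j using Fin.cases with
        | zero => simpa using hA
        | succ j => induction j using Fin.cases with
          | zero => simpa using hB
          | succ j => exact j.elim0), ← alt_two]
      congr 1
      funext j
      induction j using Fin.cases with
      | zero => rfl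
      | succ j => induction j using Fin.cases with
        | zero => rfl
        | succ j => exact j.elim0
    refine index_surface (k := RatFunc k) ((Pencil.dim_XK (k := k) (X := X)).trans hdim)
      (AmpleVan.FiniteSurj.isAmple_pullback_of_isAffineHom (Pencil.prj k X) hH)
      (PicClLib.isInvertible_pullback _ hL) ?_ ?_ C' ι' hC'i hC'd
    · rw [hp L H hL hH.1]
      convert h1 using 2
      funext j
      fin_cases j <;> rfl
    · rw [hp L L hL hL]
      simp only [pow_zero, one_mul] at h2
      convert h2 using 3
      funext j
      fin_cases j <;> rfl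
  | succ s ih =>
    intro k _ X _ _ _ hdim H L hH hL h1 h2 C ι _ hCi hC
    haveI := hCi
    obtain ⟨Y, iO, hPr, g, C', ι', a, hYi, hYd, hι', hC'i, hC'd, hamp, ha, hdeg, b, hb, hnum⟩ :=
      Pencil.exists_step (k := k) hH ι hC (r := s + 2) (by omega) hdim
    letI := iO
    haveI := hPr
    haveI := hYi
    haveI := hι'
    rw [← hdeg L hL]
    refine ih (RatFunc k) Y hYd _ _ hamp (PicClLib.isInvertible_pullback g hL) ?_ ?_ C' ι' hC'i hC'd
    · have h := hnum (Fin.cons L fun _ => H) fun j => by
        induction j using Fin.cases with
        | zero => simpa using hL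
        | succ j => simpa using hH.1
      rw [alt_swap, show (Fin.cons H fun _ : Fin (s + 1) => H : Fin (s + 2) → X.Modules) = fun _ => H from
        funext fun j => by induction j using Fin.cases <;> rfl, h1, mul_zero, neg_zero, mul_eq_zero,
        or_iff_right ha.ne'] at h
      convert h using 2
      funext j
      induction j using Fin.cases <;> rfl
    · have h := hnum (Fin.cons L (Fin.cons L fun _ => H)) fun j => by
        induction j using Fin.cases with
        | zero => simpa using hL
        | succ j => induction j using Fin.cases with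
          | zero => simpa using hL
          | succ j => simpa using hH.1
      rw [alt_swap] at h
      have e : alt k (s + 3) (Fin.cons L (Fin.cons H (Fin.cons L fun _ : Fin s => H))) (Coh.structureModule X) =
          alt k (s + 3) (Fin.cons L (Fin.cons L fun _ : Fin (s + 1) => H)) (Coh.structureModule X) := by
        rw [IntAlt.alt_succ, IntAlt.alt_succ k (Fin.cons L (Fin.cons L _))]
        simp only [Fin.cons_zero, Fin.cons_succ]
        rw [alt_swap, alt_swap H L]
        congr 3 <;>
          (rw [show (Fin.cons H fun _ : Fin s => H : Fin (s + 1) → X.Modules) = fun _ => H from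
            funext fun j => by induction j using Fin.cases <;> rfl])
      rw [e] at h
      have hY : alt (RatFunc k) (s + 2) (Fin.cons ((Scheme.Modules.pullback g).obj L)
          (Fin.cons ((Scheme.Modules.pullback g).obj L) fun _ => (Scheme.Modules.pullback g).obj H))
            (Coh.structureModule Y) =
          alt (RatFunc k) (s + 2) (fun i => (Scheme.Modules.pullback g).obj
            ((Fin.cons L (Fin.cons L fun _ => H) : Fin (s + 2) → X.Modules) i)) (Coh.structureModule Y) := by
        congr 1
        funext j
        induction j using Fin.cases with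
        | zero => rfl
        | succ j => induction j using Fin.cases <;> rfl
      rw [hY]
      by_contra hneg
      push_neg at hneg
      have := mul_neg_of_pos_of_neg ha hneg
      rw [pow_succ] at h2
      replace h2 : 0 ≤ (-1 : ℤ) ^ s * -1 *
          alt k (s + 3) (Fin.cons L (Fin.cons L fun _ : Fin (s + 1) => H)) (Coh.structureModule X) := h2
      generalize alt k (s + 3) (Fin.cons L (Fin.cons L fun _ : Fin (s + 1) => H)) (Coh.structureModule X) = x at h h2
      generalize alt (RatFunc k) (s + 2) (fun i => (Scheme.Modules.pullback g).obj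
        ((Fin.cons L (Fin.cons L fun _ => H) : Fin (s + 2) → X.Modules) i)) (Coh.structureModule Y) = y at h this
      have h3 : a * ((-1 : ℤ) ^ s * y) = b * ((-1 : ℤ) ^ s * -1 * x) := by linear_combination (-1 : ℤ) ^ s * h
      have h4 := mul_nonneg hb.le h2
      linarith

end Groth.Agent.Pic13Lib.Hodge
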