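import Groth.Agent.Pic13Lib.Hodge.PencilAlg
import Groth.Agent.Lib.AVAmple
import Groth.Agent.VarDim.Local
import Groth.Agent.VarDim.Top
import Groth.Agent.FibDim.BaseField
import Groth.Agent.InvX.GenLocusPull
import Mathlib.AlgebraicGeometry.Pullbacks
import Mathlib.RingTheory.Ideal.KrullsHeightTheorem

/-!
# The generic member of a pencil

For two sections `s₀, s₁` of an invertible module on an integral scheme over `k`, the section `s₀ + t s₁` on the
extension to `k(t)`: the scheme stays integral, and a point of its zero set of maximal dimension lies over the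
generic point, where it is unique, as soon as the base locus is small.
-/

set_option autoImplicit false
set_option linter.style.haveILetI false
set_option linter.unusedSectionVars false
set_option backward.isDefEq.respectTransparency false
set_option backward.isDefEq.respectTransparency.types false
set_option maxHeartbeats 1000000

universe u

open CategoryTheory CategoryTheory.Limits AlgebraicGeometry TopologicalSpace Opposite TensorProduct
open Groth.Agent.H23 Groth.Agent.H23.TrivBasic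

noncomputable section

namespace Groth.Agent.Pic13Lib.Hodge.Pencil

variable (k : Type u) [Field k] (X : Scheme.{u}) [X.Over (Spec (CommRingCat.of k))]

/-- The base change to rational functions. -/
abbrev base : Spec (CommRingCat.of (RatFunc k)) ⟶ Spec (CommRingCat.of k) :=
  Spec.map (CommRingCat.ofHom (algebraMap k (RatFunc k)))

/-- The scheme over rational functions. -/
abbrev XK : Scheme.{u} := pullback (X ↘ Spec (CommRingCat.of k)) (base k)

/-- The projection. -/
abbrev prj : XK k X ⟶ X := pullback.fst _ _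

instance : (XK k X).Over (Spec (CommRingCat.of (RatFunc k))) := ⟨pullback.snd _ _⟩

instance [IsProper (X ↘ Spec (CommRingCat.of k))] : IsProper (XK k X ↘ Spec (CommRingCat.of (RatFunc k))) :=
  show IsProper (pullback.snd _ _) from inferInstance

theorem isPullback_prj : IsPullback (prj k X) (XK k X ↘ Spec (CommRingCat.of (RatFunc k)))
    (X ↘ Spec (CommRingCat.of k)) (base k) :=
  IsPullback.of_hasPullback _ _

/-- The variable as a global function. -/
def tau : Γ(XK k X, ⊤) :=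
  (XK k X ↘ Spec (CommRingCat.of (RatFunc k))).appTop ((Scheme.ΓSpecIso (CommRingCat.of (RatFunc k))).inv RatFunc.X)

variable {k X}

/-- The algebra structure on the functions on an affine open. -/
def algOn {W : X.Opens} (hW : IsAffineOpen W) : Algebra k Γ(X, W) :=
  (Spec.preimage (hW.fromSpec ≫ X ↘ Spec (CommRingCat.of k))).hom.toAlgebra

/-- The chart over an affine open. -/
theorem exists_chart {W : X.Opens} (hW : IsAffineOpen W) :
    letI := algOn (k := k) hW
    ∃ j : Spec (CommRingCat.of (Ext k Γ(X, W))) ⟶ XK k X, IsOpenImmersion j ∧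
      j ≫ prj k X = Spec.map (CommRingCat.ofHom
        (Algebra.TensorProduct.includeLeft (R := k) (S := k) (A := Γ(X, W)) (B := RatFunc k)).toRingHom) ≫ hW.fromSpec ∧
      j ≫ (XK k X ↘ Spec (CommRingCat.of (RatFunc k))) = Spec.map (CommRingCat.ofHom
        (Algebra.TensorProduct.includeRight (R := k) (A := Γ(X, W)) (B := RatFunc k)).toRingHom) ∧
      Set.range j = prj k X ⁻¹' W := by
  letI := algOn (k := k) hW
  let iL := CommRingCat.ofHom
    (Algebra.TensorProduct.includeLeft (R := k) (S := k) (A := Γ(X, W)) (B := RatFunc k)).toRingHom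
  let iR := CommRingCat.ofHom (Algebra.TensorProduct.includeRight (R := k) (A := Γ(X, W)) (B := RatFunc k)).toRingHom
  have hstr : hW.fromSpec ≫ (X ↘ Spec (CommRingCat.of k)) =
      Spec.map (CommRingCat.ofHom (algebraMap k Γ(X, W))) := (Spec.map_preimage _).symm
  have h1 : IsPullback (Spec.map iL) (Spec.map iR) (Spec.map (CommRingCat.ofHom (algebraMap k Γ(X, W)))) (base k) :=
    isPullback_SpecMap_of_isPushout _ _ _ _ (CommRingCat.isPushout_tensorProduct k Γ(X, W) (RatFunc k))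
  let j : Spec (CommRingCat.of (Ext k Γ(X, W))) ⟶ XK k X :=
    pullback.lift (Spec.map iL ≫ hW.fromSpec) (Spec.map iR) (by rw [Category.assoc, hstr]; exact h1.w)
  have e1 : j ≫ prj k X = Spec.map iL ≫ hW.fromSpec := pullback.lift_fst _ _ _
  have e2 : j ≫ (XK k X ↘ Spec (CommRingCat.of (RatFunc k))) = Spec.map iR := pullback.lift_snd _ _ _
  have h2 : IsPullback j (Spec.map iL) (prj k X) hW.fromSpec :=
    IsPullback.of_right (by rw [e2, hstr]; exact h1.flip) e1 (isPullback_prj k X).flip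
  refine ⟨j, MorphismProperty.of_isPullback h2.flip inferInstance, e1, e2, ?_⟩
  rw [← h2.isoPullback_hom_fst, Scheme.Hom.comp_base, TopCat.coe_comp, Set.range_comp,
    Set.range_eq_univ.2 h2.isoPullback.hom.surjective, Set.image_univ,
    Scheme.Pullback.range_fst]
  exact congrArg (prj k X ⁻¹' ·) hW.range_fromSpec

variable {M : X.Modules}

/-- The pencil section. -/
def sec (s₀ s₁ : Γ(M, ⊤)) : Γ((Scheme.Modules.pullback (prj k X)).obj M, ⊤) :=
  (show Γ((Scheme.Modules.pullback (prj k X)).obj M, ⊤) from InvX.pullElt (prj k X) s₀) +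
    tau k X • (show Γ((Scheme.Modules.pullback (prj k X)).obj M, ⊤) from InvX.pullElt (prj k X) s₁)

theorem res_sec {W : X.Opens} {ε : Γ(M, W)} {f₀ f₁ : Γ(X, W)} (s₀ s₁ : Γ(M, ⊤))
    (h₀ : AModX.res M (le_top : W ≤ ⊤) s₀ = f₀ • ε) (h₁ : AModX.res M (le_top : W ≤ ⊤) s₁ = f₁ • ε) :
    AModX.res _ (le_top : prj k X ⁻¹ᵁ W ≤ ⊤) (sec (k := k) s₀ s₁) =
      ((prj k X).app W f₀ + AModX.resR (le_top : prj k X ⁻¹ᵁ W ≤ ⊤) (tau k X) * (prj k X).app W f₁) •
        InvX.pullElt (prj k X) ε := by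
  have e : ∀ (s : Γ(M, ⊤)) (f : Γ(X, W)), AModX.res M (le_top : W ≤ ⊤) s = f • ε →
      AModX.res _ (le_top : prj k X ⁻¹ᵁ W ≤ ⊤)
        (show Γ((Scheme.Modules.pullback (prj k X)).obj M, ⊤) from InvX.pullElt (prj k X) s) =
        (prj k X).app W f • InvX.pullElt (prj k X) ε := fun s f h => by
    rw [← InvX.pullElt_smul, ← h, ← InvX.res_pullElt]
    rfl
  rw [sec, map_add, AModX.res_smul, e s₀ f₀ h₀, e s₁ f₁ h₁, add_smul, mul_smul]

/-- Membership in the generating locus on a chart. -/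
theorem mem_locus_sec_iff {W : X.Opens} (hW : IsAffineOpen W) {ε : Γ(M, W)} (hε : InvX.IsFrame ε)
    {f₀ f₁ : Γ(X, W)} (s₀ s₁ : Γ(M, ⊤))
    (h₀ : AModX.res M (le_top : W ≤ ⊤) s₀ = f₀ • ε) (h₁ : AModX.res M (le_top : W ≤ ⊤) s₁ = f₁ • ε) :
    letI := algOn (k := k) hW
    ∀ (j : Spec (CommRingCat.of (Ext k Γ(X, W))) ⟶ XK k X),
      j ≫ prj k X = Spec.map (CommRingCat.ofHom
        (Algebra.TensorProduct.includeLeft (R := k) (S := k) (A := Γ(X, W)) (B := RatFunc k)).toRingHom) ≫ hW.fromSpec →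
      j ≫ (XK k X ↘ Spec (CommRingCat.of (RatFunc k))) = Spec.map (CommRingCat.ofHom
        (Algebra.TensorProduct.includeRight (R := k) (A := Γ(X, W)) (B := RatFunc k)).toRingHom) →
      ∀ P : PrimeSpectrum (Ext k Γ(X, W)), j P ∈ locus (sec (k := k) s₀ s₁) ↔
        (f₀ ⊗ₜ[k] (1 : RatFunc k)) + var k Γ(X, W) * (f₁ ⊗ₜ[k] (1 : RatFunc k)) ∉ P.asIdeal := by
  letI := algOn (k := k) hW
  intro j e1 e2 P
  let iL := CommRingCat.ofHom
    (Algebra.TensorProduct.includeLeft (R := k) (S := k) (A := Γ(X, W)) (B := RatFunc k)).toRingHom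
  let iR := CommRingCat.ofHom (Algebra.TensorProduct.includeRight (R := k) (A := Γ(X, W)) (B := RatFunc k)).toRingHom
  let R := CommRingCat.of (Ext k Γ(X, W))
  have hjW : ⊤ ≤ j ⁻¹ᵁ (prj k X ⁻¹ᵁ W) := fun z _ => by
    show prj k X (j z) ∈ W
    rw [← Scheme.Hom.comp_apply, e1, Scheme.Hom.comp_apply]
    exact VarDim.fromSpec_mem hW _
  have hmem : j P ∈ prj k X ⁻¹ᵁ W := hjW (Set.mem_univ P)
  have hf : InvX.IsFrame (InvX.pullElt (prj k X) ε) := InvX.isFrame_pullElt (prj k X) hε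
  have h := locus_eq_basicOpen hf (res_sec (k := k) s₀ s₁ h₀ h₁)
  let c := (prj k X).app W f₀ + AModX.resR (le_top : prj k X ⁻¹ᵁ W ≤ ⊤) (tau k X) * (prj k X).app W f₁
  let γ : Γ(XK k X, prj k X ⁻¹ᵁ W) →+* Γ(Spec R, ⊤) := (j.appLE _ ⊤ hjW).hom
  have g0 : ∀ f : Γ(X, W), γ ((prj k X).app W f) = (Scheme.ΓSpecIso R).inv (iL f) := fun f => by
    show ((prj k X).app W ≫ j.appLE _ ⊤ hjW) f = _
    have hA : (prj k X).app W ≫ j.appLE _ ⊤ hjW = (j ≫ prj k X).appLE W ⊤ hjW := by
      rw [Scheme.Hom.app_eq_appLE, Scheme.Hom.appLE_comp_appLE]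
    rw [hA]
    have hB : ∀ (g : Spec R ⟶ X) (hg : g = Spec.map iL ≫ hW.fromSpec) (h : ⊤ ≤ g ⁻¹ᵁ W),
        g.appLE W ⊤ h f = (Scheme.ΓSpecIso R).inv (iL f) := by
      intro g hg h
      subst hg
      rw [← Scheme.Hom.appLE_comp_appLE _ _ W ⊤ ⊤ hW.fromSpec_preimage_self.ge le_top]
      have h1 : hW.fromSpec.appLE W ⊤ hW.fromSpec_preimage_self.ge = (Scheme.ΓSpecIso Γ(X, W)).inv := by
        rw [Scheme.Hom.appLE, hW.fromSpec_app_self, Category.assoc, ← Functor.map_comp]
        rw [Subsingleton.elim (_ ≫ _) (𝟙 _), CategoryTheory.Functor.map_id, Category.comp_id]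
      rw [h1]
      show ((Scheme.ΓSpecIso Γ(X, W)).inv ≫ (Spec.map iL).appTop) f = _
      rw [← Scheme.ΓSpecIso_inv_naturality]
      rfl
    exact hB _ e1 hjW
  have g1 : γ (AModX.resR (le_top : prj k X ⁻¹ᵁ W ≤ ⊤) (tau k X)) = (Scheme.ΓSpecIso R).inv (iR RatFunc.X) := by
    show ((XK k X).presheaf.map (homOfLE le_top).op ≫ j.appLE _ ⊤ hjW) (tau k X) = _
    rw [Scheme.Hom.map_appLE]
    show ((XK k X ↘ Spec (CommRingCat.of (RatFunc k))).appTop ≫ j.appLE ⊤ ⊤ le_top) _ = _
    rw [show j.appLE ⊤ ⊤ le_top = j.appTop from by simp [Scheme.Hom.appLE, Scheme.Hom.appTop],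
      ← Scheme.Hom.comp_appTop, e2]
    show ((Scheme.ΓSpecIso (CommRingCat.of (RatFunc k))).inv ≫ (Spec.map iR).appTop) RatFunc.X = _
    rw [← Scheme.ΓSpecIso_inv_naturality]
    rfl
  have hγ : γ c = (Scheme.ΓSpecIso R).inv ((f₀ ⊗ₜ[k] (1 : RatFunc k)) + var k Γ(X, W) * (f₁ ⊗ₜ[k] (1 : RatFunc k))) := by
    rw [map_add, map_mul, g0, g1, g0, ← map_mul, ← map_add]
    rfl
  calc j P ∈ locus (sec (k := k) s₀ s₁) ↔ j P ∈ (XK k X).basicOpen c :=
        ⟨fun hl => (h.le ⟨hl, hmem⟩), fun hl => (h.ge hl).1⟩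
    _ ↔ P ∈ (Spec R).basicOpen (γ c) := by
      show P ∈ j ⁻¹ᵁ (XK k X).basicOpen c ↔ _
      rw [Scheme.preimage_basicOpen]
      show _ ↔ P ∈ (Spec R).basicOpen ((Spec R).presheaf.map (homOfLE hjW).op (j.app _ c))
      rw [Scheme.basicOpen_res]
      exact ⟨fun h => ⟨Set.mem_univ _, h⟩, fun h => h.2⟩
    _ ↔ _ := by
      rw [hγ, basicOpen_eq_of_affine]
      exact PrimeSpectrum.mem_basicOpen _ _

end Groth.Agent.Pic13Lib.Hodge.Pencil
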