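import Mathlib.FieldTheory.RatFunc.AsPolynomial
import Mathlib.RingTheory.TensorProduct.Basic
import Mathlib.RingTheory.LocalRing.ResidueField.Ideal
import Mathlib.RingTheory.Localization.FractionRing

/-!
# Primes of the extension of scalars to a field of rational functions

For an algebra `A` over a field `k` and `B = A ⊗ k(t)`, every fibre over a prime `p` of `A` has a least point,
and at most one point of the fibre contains a linear form `a + t b` with `b ∉ p`.
-/

set_option autoImplicit false

universe u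

open TensorProduct Polynomial

noncomputable section

namespace Groth.Agent.Pic13Lib.Hodge.Pencil

variable (k : Type u) [Field k] (A : Type u) [CommRing A] [Algebra k A]

/-- The extension of scalars. -/
abbrev Ext : Type u := A ⊗[k] RatFunc k

/-- The variable. -/
def var : Ext k A := (1 : A) ⊗ₜ[k] RatFunc.X

/-- Polynomials in the variable. -/
def ev : A[X] →ₐ[A] Ext k A := Polynomial.aeval (var k A)

theorem ev_map (s : k[X]) :
    ev k A (s.map (algebraMap k A)) = (1 : A) ⊗ₜ[k] algebraMap k[X] (RatFunc k) s := by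
  rw [ev, Polynomial.aeval_map_algebraMap]
  have h : (Algebra.TensorProduct.includeRight : RatFunc k →ₐ[k] Ext k A) (Polynomial.aeval RatFunc.X s) =
      Polynomial.aeval (var k A) s :=
    (Polynomial.aeval_algHom_apply (Algebra.TensorProduct.includeRight : RatFunc k →ₐ[k] Ext k A) RatFunc.X s).symm
  rw [← h]
  show (1 : A) ⊗ₜ[k] Polynomial.aeval RatFunc.X s = _
  rw [RatFunc.aeval_X_left_eq_algebraMap]

theorem isUnit_ev_map {s : k[X]} (hs : s ≠ 0) : IsUnit (ev k A (s.map (algebraMap k A))) := by
  rw [ev_map]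
  exact (IsUnit.mk0 _ (RatFunc.algebraMap_ne_zero hs)).map
    (Algebra.TensorProduct.includeRight : RatFunc k →ₐ[k] Ext k A)

/-- Every element is a polynomial divided by a nonzero constant polynomial. -/
theorem exists_mul_eq (b : Ext k A) :
    ∃ s : k[X], s ≠ 0 ∧ ∃ c : A[X], b * ev k A (s.map (algebraMap k A)) = ev k A c := by
  induction b using TensorProduct.induction_on with
  | zero => exact ⟨1, one_ne_zero, 0, by simp⟩
  | tmul a r =>
    refine ⟨r.denom, RatFunc.denom_ne_zero r, Polynomial.C a * r.num.map (algebraMap k A), ?_⟩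
    rw [map_mul, ev_map, ev_map]
    rw [show ev k A (Polynomial.C a) = a ⊗ₜ[k] (1 : RatFunc k) from Polynomial.aeval_C _ a,
      Algebra.TensorProduct.tmul_mul_tmul, Algebra.TensorProduct.tmul_mul_tmul, one_mul, mul_one]
    congr 1
    have h := RatFunc.num_div_denom r
    rw [div_eq_iff (RatFunc.algebraMap_ne_zero (RatFunc.denom_ne_zero r))] at h
    exact h.symm
  | add x y hx hy =>
    obtain ⟨s, hs, c, hc⟩ := hx
    obtain ⟨t, ht, d, hd⟩ := hy
    refine ⟨s * t, mul_ne_zero hs ht, c * t.map (algebraMap k A) + d * s.map (algebraMap k A), ?_⟩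
    rw [Polynomial.map_mul, map_mul, map_add, map_mul, map_mul, ← hc, ← hd]
    ring

variable {k A}

section Fibre

variable (p : Ideal A) [p.IsPrime]

/-- The composite to the rational functions over the residue field. -/
def toRes : k[X] →ₐ[k] RatFunc p.ResidueField :=
  Polynomial.aeval RatFunc.X

theorem toRes_ne_zero {s : k[X]} (hs : s ≠ 0) : toRes p s ≠ 0 := by
  rw [toRes, show (Polynomial.aeval (RatFunc.X : RatFunc p.ResidueField)) s =
    algebraMap p.ResidueField[X] (RatFunc p.ResidueField) (s.map (algebraMap k p.ResidueField)) by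
      rw [← RatFunc.aeval_X_left_eq_algebraMap, Polynomial.aeval_map_algebraMap]]
  exact RatFunc.algebraMap_ne_zero ((Polynomial.map_ne_zero_iff (algebraMap k p.ResidueField).injective).2 hs)

/-- The map to the rational functions over the residue field. -/
def gen : Ext k A →ₐ[k] RatFunc p.ResidueField :=
  Algebra.TensorProduct.lift
    (((IsScalarTower.toAlgHom k p.ResidueField (RatFunc p.ResidueField))).comp
      (IsScalarTower.toAlgHom k A p.ResidueField))
    (IsFractionRing.liftAlgHom (g := toRes (k := k) p) ((injective_iff_map_eq_zero _).2 fun s hs => by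
      by_contra h; exact toRes_ne_zero p h hs))
    fun _ _ => Commute.all _ _

theorem gen_left (a : A) :
    gen (k := k) p (a ⊗ₜ[k] (1 : RatFunc k)) = algebraMap p.ResidueField _ (algebraMap A p.ResidueField a) := by
  simp [gen]

theorem gen_var : gen (k := k) p (var k A) = RatFunc.X := by
  simp only [gen, var, Algebra.TensorProduct.lift_tmul, map_one, one_mul]
  rw [show (RatFunc.X : RatFunc k) = algebraMap k[X] (RatFunc k) Polynomial.X from RatFunc.algebraMap_X.symm,
    IsFractionRing.liftAlgHom_apply, IsFractionRing.lift_algebraMap]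
  simp [toRes]

theorem gen_ev (c : A[X]) :
    gen (k := k) p (ev k A c) = algebraMap _ _ (c.map (algebraMap A p.ResidueField)) := by
  induction c using Polynomial.induction_on' with
  | add f g hf hg => rw [map_add, map_add, Polynomial.map_add, map_add, hf, hg]
  | monomial n a =>
    rw [ev, Polynomial.aeval_monomial, map_mul, map_pow, gen_var, Polynomial.map_monomial,
      ← Polynomial.C_mul_X_pow_eq_monomial, map_mul, map_pow, RatFunc.algebraMap_X, RatFunc.algebraMap_C]
    congr 1
    exact gen_left p a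

/-- The least prime of the fibre. -/
def genPrime : Ideal (Ext k A) := RingHom.ker (gen (k := k) p)

instance : (genPrime (k := k) p).IsPrime := RingHom.ker_isPrime _

theorem comap_genPrime : (genPrime (k := k) p).comap (Algebra.TensorProduct.includeLeft : A →ₐ[k] Ext k A) = p := by
  ext a
  rw [Ideal.mem_comap, genPrime, RingHom.mem_ker]
  show gen (k := k) p (a ⊗ₜ[k] (1 : RatFunc k)) = 0 ↔ _
  rw [gen_left, map_eq_zero, Ideal.algebraMap_residueField_eq_zero]

theorem genPrime_le (P : Ideal (Ext k A)) [P.IsPrime]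
    (hP : P.comap (Algebra.TensorProduct.includeLeft : A →ₐ[k] Ext k A) = p) : genPrime (k := k) p ≤ P := by
  intro b hb
  obtain ⟨s, hs, c, hc⟩ := exists_mul_eq k A b
  have h1 : gen (k := k) p (ev k A c) = 0 := by rw [← hc, map_mul, RingHom.mem_ker.1 hb, zero_mul]
  rw [gen_ev, map_eq_zero_iff _ (RatFunc.algebraMap_injective _)] at h1
  have h2 : ev k A c ∈ P := by
    rw [ev, Polynomial.aeval_eq_sum_range]
    refine Ideal.sum_mem _ fun i _ => ?_
    rw [Algebra.smul_def]
    refine Ideal.mul_mem_right _ _ ?_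
    have h3 := congrArg (fun q => Polynomial.coeff q i) h1
    rw [Polynomial.coeff_map, Polynomial.coeff_zero, Ideal.algebraMap_residueField_eq_zero, ← hP] at h3
    exact h3
  rw [← hc] at h2
  exact (Ideal.IsPrime.mem_or_mem ‹_› h2).resolve_right fun h =>
    Ideal.IsPrime.ne_top ‹_› (Ideal.eq_top_of_isUnit_mem _ h (isUnit_ev_map k A hs))

theorem lin_notMem_genPrime {a b : A} (h : a ∉ p ∨ b ∉ p) :
    (a ⊗ₜ[k] (1 : RatFunc k)) + var k A * (b ⊗ₜ[k] (1 : RatFunc k)) ∉ genPrime (k := k) p := by
  intro hm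
  have e : (a ⊗ₜ[k] (1 : RatFunc k)) + var k A * (b ⊗ₜ[k] (1 : RatFunc k)) =
      ev k A (Polynomial.C a + Polynomial.X * Polynomial.C b) := by
    rw [map_add, map_mul, ev, Polynomial.aeval_C, Polynomial.aeval_C, Polynomial.aeval_X]
    rfl
  rw [e, genPrime, RingHom.mem_ker, gen_ev, map_eq_zero_iff _ (RatFunc.algebraMap_injective _)] at hm
  have h0 := congrArg (fun q => Polynomial.coeff q 0) hm
  have h1 := congrArg (fun q => Polynomial.coeff q 1) hm
  simp at h0 h1
  tauto

theorem eq_of_lin_mem {a b : A} (hb : b ∉ p) (P P' : Ideal (Ext k A)) [P.IsPrime] [P'.IsPrime]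
    (hP : P.comap (Algebra.TensorProduct.includeLeft : A →ₐ[k] Ext k A) = p)
    (hP' : P'.comap (Algebra.TensorProduct.includeLeft : A →ₐ[k] Ext k A) = p)
    (hs : (a ⊗ₜ[k] (1 : RatFunc k)) + var k A * (b ⊗ₜ[k] (1 : RatFunc k)) ∈ P)
    (hs' : (a ⊗ₜ[k] (1 : RatFunc k)) + var k A * (b ⊗ₜ[k] (1 : RatFunc k)) ∈ P') : P = P' := by
  have key : ∀ c : A[X], ∃ e : A, ∀ Q : Ideal (Ext k A), Q.IsPrime →
      Q.comap (Algebra.TensorProduct.includeLeft : A →ₐ[k] Ext k A) = p →
      (a ⊗ₜ[k] (1 : RatFunc k)) + var k A * (b ⊗ₜ[k] (1 : RatFunc k)) ∈ Q →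
      (ev k A c ∈ Q ↔ e ∈ p) := by
    intro c
    refine ⟨∑ i ∈ Finset.range (c.natDegree + 1), c.coeff i * (-a) ^ i * b ^ (c.natDegree - i),
      fun Q hQ hQp hQs => ?_⟩
    haveI := hQ
    have hbQ : algebraMap A (Ext k A) b ∉ Q := fun h => hb (by rw [← hQp]; exact h)
    have hmod : (Ideal.Quotient.mk Q) (var k A) * Ideal.Quotient.mk Q (algebraMap A (Ext k A) b) =
        -Ideal.Quotient.mk Q (algebraMap A (Ext k A) a) := by
      rw [eq_neg_iff_add_eq_zero, ← map_mul, ← map_add, Ideal.Quotient.eq_zero_iff_mem, add_comm]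
      exact hQs
    have hev : Ideal.Quotient.mk Q (ev k A c * algebraMap A (Ext k A) b ^ c.natDegree) =
        Ideal.Quotient.mk Q (algebraMap A (Ext k A)
          (∑ i ∈ Finset.range (c.natDegree + 1), c.coeff i * (-a) ^ i * b ^ (c.natDegree - i))) := by
      rw [ev, Polynomial.aeval_eq_sum_range, Finset.sum_mul]
      simp only [Algebra.smul_def, map_sum, map_mul, map_pow, map_neg]
      refine Finset.sum_congr rfl fun i hi => ?_
      rw [← hmod, mul_pow, mul_assoc, mul_assoc, mul_assoc]
      congr 2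
      rw [← pow_add]
      congr 1
      have := Finset.mem_range.1 hi
      omega
    rw [← hQp, Ideal.mem_comap]
    show _ ↔ algebraMap A (Ext k A) _ ∈ Q
    rw [← Ideal.Quotient.eq_zero_iff_mem, ← Ideal.Quotient.eq_zero_iff_mem, ← hev, map_mul, mul_eq_zero,
      map_pow, or_iff_left]
    exact pow_ne_zero _ fun h => hbQ (Ideal.Quotient.eq_zero_iff_mem.1 h)
  ext y
  obtain ⟨s, hs0, c, hc⟩ := exists_mul_eq k A y
  obtain ⟨e, he⟩ := key c
  have hu : ∀ Q : Ideal (Ext k A), Q.IsPrime → (y ∈ Q ↔ ev k A c ∈ Q) := fun Q hQ => by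
    rw [← hc, Ideal.mul_unit_mem_iff_mem Q (isUnit_ev_map k A hs0)]
  rw [hu P inferInstance, hu P' inferInstance, he P inferInstance hP hs, he P' inferInstance hP' hs']

end Fibre

/-- Extension of scalars to rational functions preserves domains. -/
theorem isDomain_ext [IsDomain A] : IsDomain (Ext k A) := by
  have hinj : Function.Injective (gen (k := k) (⊥ : Ideal A)) := (injective_iff_map_eq_zero _).2 fun b hb => by
    obtain ⟨s, hs, c, hc⟩ := exists_mul_eq k A b
    have h1 : gen (k := k) (⊥ : Ideal A) (ev k A c) = 0 := by rw [← hc, map_mul, hb, zero_mul]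
    rw [gen_ev, map_eq_zero_iff _ (RatFunc.algebraMap_injective _)] at h1
    have h2 : c = 0 := by
      ext i
      have h3 := congrArg (fun q => Polynomial.coeff q i) h1
      rw [Polynomial.coeff_map, Polynomial.coeff_zero, Ideal.algebraMap_residueField_eq_zero] at h3
      simpa using h3
    rw [h2, map_zero] at hc
    exact (isUnit_ev_map k A hs).mul_left_eq_zero.1 hc
  haveI : Nontrivial (Ext k A) := (gen (k := k) (⊥ : Ideal A)).toRingHom.domain_nontrivial
  exact hinj.isDomain

end Groth.Agent.Pic13Lib.Hodge.Pencil
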