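import Groth.Agent.Pic13Lib.Hodge.Pencil

/-!
# The points of the generic member of a pencil
-/

set_option autoImplicit false
set_option linter.style.haveILetI false
set_option linter.unusedSectionVars false
set_option backward.isDefEq.respectTransparency false
set_option backward.isDefEq.respectTransparency.types false
set_option maxHeartbeats 1000000

universe u

open CategoryTheory CategoryTheory.Limits AlgebraicGeometry TopologicalSpace Opposite TensorProduct
open Groth.Agent.H23 Groth.Agent.H23.TrivBasic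

noncomputable section

namespace Groth.Agent.Pic13Lib.Hodge.Pencil

variable {k : Type u} [Field k] {X : Scheme.{u}} [X.Over (Spec (CommRingCat.of k))]

/-- The prime of a point in a chart lies over the point of the base. -/
theorem comap_eq_of_fromSpec {W : X.Opens} (hW : IsAffineOpen W) {p : PrimeSpectrum Γ(X, W)} :
    letI := algOn (k := k) hW
    ∀ (j : Spec (CommRingCat.of (Ext k Γ(X, W))) ⟶ XK k X),
      j ≫ prj k X = Spec.map (CommRingCat.ofHom
        (Algebra.TensorProduct.includeLeft (R := k) (S := k) (A := Γ(X, W)) (B := RatFunc k)).toRingHom) ≫ hW.fromSpec →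
      ∀ P : PrimeSpectrum (Ext k Γ(X, W)), prj k X (j P) = hW.fromSpec p ↔
        P.asIdeal.comap (Algebra.TensorProduct.includeLeft (R := k) (S := k) (A := Γ(X, W)) (B := RatFunc k)) =
          p.asIdeal := by
  letI := algOn (k := k) hW
  intro j e1 P
  rw [← Scheme.Hom.comp_apply, e1, Scheme.Hom.comp_apply]
  exact hW.fromSpec.isOpenEmbedding.injective.eq_iff.trans PrimeSpectrum.ext_iff

/-- Each fibre has a least point, outside the zero set of the pencil section off the base locus. -/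
theorem exists_fibre_gen {M : X.Modules} (hM : PicF.IsInvertible M) (s₀ s₁ : Γ(M, ⊤)) (x : X) :
    ∃ g : XK k X, prj k X g = x ∧ (∀ y, prj k X y = x → g ⤳ y) ∧
      (x ∈ locus s₀ ∨ x ∈ locus s₁ → g ∈ locus (sec (k := k) s₀ s₁)) := by
  obtain ⟨U, hxU, ε, hε⟩ := InvX.exists_frame hM x
  obtain ⟨W, hW, hxW, hWU⟩ := exists_isAffineOpen_mem_and_subset hxU
  let ε' := AModX.res M (show W ≤ U from hWU) ε
  have hε' : InvX.IsFrame ε' := hε.res _
  obtain ⟨f₀, h₀⟩ := hε'.exists_coord le_rfl (AModX.res M (le_top : W ≤ ⊤) s₀)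
  obtain ⟨f₁, h₁⟩ := hε'.exists_coord le_rfl (AModX.res M (le_top : W ≤ ⊤) s₁)
  rw [AModX.res_self] at h₀ h₁
  obtain ⟨p, rfl⟩ := VarDim.exists_fromSpec_eq hW hxW
  letI := algOn (k := k) hW
  obtain ⟨j, hj, e1, e2, hrange⟩ := exists_chart (k := k) hW
  haveI := hj
  let P : PrimeSpectrum (Ext k Γ(X, W)) := ⟨genPrime (k := k) p.asIdeal, inferInstance⟩
  refine ⟨j P, (comap_eq_of_fromSpec hW j e1 P).2 (comap_genPrime p.asIdeal), fun y hy => ?_, fun h => ?_⟩
  · have hyW : y ∈ prj k X ⁻¹' W := by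
      show prj k X y ∈ W
      rw [hy]; exact hxW
    rw [← hrange] at hyW
    obtain ⟨Q, rfl⟩ := hyW
    refine (Specializes.map ?_ j.continuous : j P ⤳ j Q)
    exact (PrimeSpectrum.le_iff_specializes P Q).1 (genPrime_le p.asIdeal Q.asIdeal ((comap_eq_of_fromSpec hW j e1 Q).1 hy))
  · refine (mem_locus_sec_iff hW hε' s₀ s₁ h₀ h₁ j e1 e2 P).2 (lin_notMem_genPrime p.asIdeal ?_)
    have key : ∀ (s : Γ(M, ⊤)) (f : Γ(X, W)), AModX.res M (le_top : W ≤ ⊤) s = f • ε' →
        hW.fromSpec p ∈ locus s → f ∉ p.asIdeal := fun s f hs hx => by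
      have h1 := (locus_eq_basicOpen hε' hs).le ⟨hx, hxW⟩
      rw [← PrimeSpectrum.mem_basicOpen, ← hW.fromSpec_preimage_basicOpen]
      exact h1
    exact h.imp (key s₀ f₀ h₀) (key s₁ f₁ h₁)

/-- Over a point where the second section generates, the zero set of the pencil section has at most one point. -/
theorem eq_of_prj_eq {M : X.Modules} (hM : PicF.IsInvertible M) (s₀ s₁ : Γ(M, ⊤)) {y y' : XK k X}
    (h : prj k X y = prj k X y') (hs : prj k X y ∈ locus s₁) (hy : y ∉ locus (sec (k := k) s₀ s₁))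
    (hy' : y' ∉ locus (sec (k := k) s₀ s₁)) : y = y' := by
  obtain ⟨U, hxU, ε, hε⟩ := InvX.exists_frame hM (prj k X y)
  obtain ⟨W, hW, hxW, hWU⟩ := exists_isAffineOpen_mem_and_subset hxU
  let ε' := AModX.res M (show W ≤ U from hWU) ε
  have hε' : InvX.IsFrame ε' := hε.res _
  obtain ⟨f₀, h₀⟩ := hε'.exists_coord le_rfl (AModX.res M (le_top : W ≤ ⊤) s₀)
  obtain ⟨f₁, h₁⟩ := hε'.exists_coord le_rfl (AModX.res M (le_top : W ≤ ⊤) s₁)
  rw [AModX.res_self] at h₀ h₁
  obtain ⟨p, hp⟩ := VarDim.exists_fromSpec_eq hW hxW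
  letI := algOn (k := k) hW
  obtain ⟨j, hj, e1, e2, hrange⟩ := exists_chart (k := k) hW
  haveI := hj
  have hyW : y ∈ prj k X ⁻¹' W := hxW
  have hyW' : y' ∈ prj k X ⁻¹' W := by
    show prj k X y' ∈ W
    rw [← h]; exact hxW
  rw [← hrange] at hyW hyW'
  obtain ⟨P, rfl⟩ := hyW
  obtain ⟨P', rfl⟩ := hyW'
  rw [mem_locus_sec_iff hW hε' s₀ s₁ h₀ h₁ j e1 e2, not_not] at hy hy'
  refine congrArg j (PrimeSpectrum.ext (eq_of_lin_mem p.asIdeal ?_ P.asIdeal P'.asIdeal
    ((comap_eq_of_fromSpec hW j e1 P).1 hp.symm) ((comap_eq_of_fromSpec hW j e1 P').1 (h.symm.trans hp.symm)) hy hy'))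
  have h2 := (locus_eq_basicOpen hε' h₁).le ⟨hs, hxW⟩
  rw [← hp] at h2
  rw [← PrimeSpectrum.mem_basicOpen, ← hW.fromSpec_preimage_basicOpen]
  exact h2

/-- The extension to rational functions of an integral scheme is integral. -/
theorem isIntegral_XK [IsIntegral X] : IsIntegral (XK k X) := by
  obtain ⟨g, hg, hgs, -⟩ := exists_fibre_gen (k := k) (InvX.isInvertible_structureModule (X := X))
    (0 : Γ(Coh.structureModule X, ⊤)) 0 (genericPoint X)
  have hchart : ∀ y : XK k X, ∃ (R : CommRingCat.{u}) (j : Spec R ⟶ XK k X), IsOpenImmersion j ∧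
      y ∈ Set.range j ∧ IsDomain R ∧ g ⤳ y := by
    intro y
    obtain ⟨W, hW, hxW, -⟩ := exists_isAffineOpen_mem_and_subset (x := prj k X y) (U := ⊤) trivial
    letI := algOn (k := k) hW
    obtain ⟨j, hj, e1, -, hrange⟩ := exists_chart (k := k) hW
    haveI : Nonempty W := ⟨⟨_, hxW⟩⟩
    haveI : IsDomain (Ext k Γ(X, W)) := isDomain_ext
    have hy : y ∈ Set.range j := by rw [hrange]; exact hxW
    refine ⟨_, j, hj, hy, ‹_›, ?_⟩
    obtain ⟨Q, rfl⟩ := hy
    obtain ⟨p, hp⟩ := VarDim.exists_fromSpec_eq hW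
      ((genericPoint_specializes (prj k X (j Q))).mem_open W.2 hxW)
    let O : PrimeSpectrum (Ext k Γ(X, W)) := ⟨genPrime (k := k) p.asIdeal, inferInstance⟩
    let B : PrimeSpectrum (Ext k Γ(X, W)) := ⟨⊥, Ideal.isPrime_bot⟩
    have hB : prj k X (j B) = genericPoint X := by
      have hs : j B ⤳ j O := Specializes.map ((PrimeSpectrum.le_iff_specializes B O).1 bot_le) j.continuous
      have h2 : prj k X (j B) ⤳ genericPoint X := by
        rw [← hp, ← (comap_eq_of_fromSpec hW j e1 O).2 (comap_genPrime p.asIdeal)]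
        exact hs.map (prj k X).continuous
      exact (h2.antisymm (genericPoint_specializes _)).eq
    exact (hgs _ hB).trans (Specializes.map ((PrimeSpectrum.le_iff_specializes B Q).1 bot_le) j.continuous)
  haveI : IsReduced (XK k X) := by
    haveI : ∀ y : XK k X, _root_.IsReduced ((XK k X).presheaf.stalk y) := fun y => by
      obtain ⟨R, j, hj, ⟨z, rfl⟩, hR, -⟩ := hchart y
      haveI := hR
      haveI := hj
      haveI : IsReduced (Spec R) := inferInstance
      exact isReduced_of_injective (j.stalkMap z).hom (asIso (j.stalkMap z)).commRingCatIsoToRingEquiv.injective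
    exact isReduced_of_isReduced_stalk _
  haveI : IrreducibleSpace (XK k X) := by
    have h : (⊤ : Set (XK k X)) = closure {g} := (Set.eq_univ_of_forall fun y => by
      obtain ⟨R, j, -, -, -, h⟩ := hchart y
      exact specializes_iff_mem_closure.1 h).symm
    haveI : Nonempty (XK k X) := ⟨g⟩
    exact { toPreirreducibleSpace := ⟨by rw [show (Set.univ : Set (XK k X)) = closure {g} from h]; exact isIrreducible_singleton.closure.isPreirreducible⟩
            toNonempty := inferInstance }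
  exact isIntegral_of_irreducibleSpace_of_isReduced _

variable [IsProper (X ↘ Spec (CommRingCat.of k))]

theorem subsingleton_spec (K : Type u) [Field K] : Subsingleton ↥(Spec (CommRingCat.of K)) :=
  FibDim.subsingleton_spec_field K

/-- The dimension is unchanged. -/
theorem dim_XK : topologicalKrullDim (XK k X) = topologicalKrullDim X := by
  haveI := subsingleton_spec k
  haveI := subsingleton_spec (RatFunc k)
  exact FibDim.topologicalKrullDim_baseChange (isPullback_prj k X)

/-- The dimension of a point does not exceed that of its image. -/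
theorem deg_le (y : XK k X) :
    VarDim.deg (XK k X ↘ Spec (CommRingCat.of (RatFunc k))) y ≤
      VarDim.deg (X ↘ Spec (CommRingCat.of k)) (prj k X y) := by
  haveI := subsingleton_spec k
  haveI := subsingleton_spec (RatFunc k)
  have h1 := VarDim.topologicalKrullDim_closure_singleton (XK k X ↘ Spec (CommRingCat.of (RatFunc k))) y
  have h2 := VarDim.topologicalKrullDim_closure_singleton (X ↘ Spec (CommRingCat.of k)) (prj k X y)
  rw [FibDim.topologicalKrullDim_closure (XK k X ↘ Spec (CommRingCat.of (RatFunc k)))] at h1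
  rw [FibDim.topologicalKrullDim_closure (X ↘ Spec (CommRingCat.of k))] at h2
  have h3 := FibDim.rd_baseChange_le (isPullback_prj k X) y
  have e1 := WithBot.coe_inj.1 h1
  have e2 := WithBot.coe_inj.1 h2
  have e1' := Nat.cast_inj.1 e1
  have e2' := Nat.cast_inj.1 e2
  omega

omit [IsProper (X ↘ Spec (CommRingCat.of k))] in
/-- Outside the generic point, the zero set of a nonzero section has points of codimension one only as maximal points. -/
theorem deg_add_one_of_maximal {K : Type u} [Field K] {T : Scheme.{u}} [IsIntegral T]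
    (f : T ⟶ Spec (CommRingCat.of K)) [LocallyOfFiniteType f] {M : T.Modules} (hM : PicF.IsInvertible M)
    {σ : Γ(M, ⊤)} (hη : genericPoint T ∈ locus σ) {w : T} (hw : w ∉ locus σ)
    (hmax : ∀ y, y ⤳ w → y ∉ locus σ → y = w) : VarDim.deg f (genericPoint T) = VarDim.deg f w + 1 := by
  have hne : genericPoint T ≠ w := fun h => hw (h ▸ hη)
  refine VarDim.deg_of_immediate f hne (genericPoint_specializes w) fun y hy1 hy2 => ?_
  by_cases hyσ : y ∈ locus σ
  swap
  · exact Or.inr (hmax y hy2 hyσ)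
  refine Or.inl ?_
  obtain ⟨U, hxU, ε, hε⟩ := InvX.exists_frame hM w
  obtain ⟨W, hW, hxW, hWU⟩ := exists_isAffineOpen_mem_and_subset hxU
  let ε' := AModX.res M (show W ≤ U from hWU) ε
  have hε' : InvX.IsFrame ε' := hε.res _
  obtain ⟨g, hg⟩ := hε'.exists_coord le_rfl (AModX.res M (le_top : W ≤ ⊤) σ)
  rw [AModX.res_self] at hg
  have hloc : ∀ p : PrimeSpectrum Γ(T, W), hW.fromSpec p ∈ locus σ ↔ g ∉ p.asIdeal := fun p => by
    rw [← PrimeSpectrum.mem_basicOpen, ← hW.fromSpec_preimage_basicOpen]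
    exact ⟨fun h => (locus_eq_basicOpen hε' hg).le ⟨h, VarDim.fromSpec_mem hW p⟩,
      fun h => ((locus_eq_basicOpen hε' hg).ge h).1⟩
  obtain ⟨p, rfl⟩ := VarDim.exists_fromSpec_eq hW hxW
  obtain ⟨q, rfl⟩ := VarDim.exists_fromSpec_eq hW (hy2.mem_open W.2 hxW)
  obtain ⟨_, hft⟩ := VarDim.exists_algebra f hW
  haveI : IsNoetherianRing Γ(T, W) := Algebra.FiniteType.isNoetherianRing K _
  haveI : Nonempty W := ⟨⟨_, hxW⟩⟩
  have hqp := (VarDim.fromSpec_specializes_iff hW q p).1 hy2
  have hmin : p.asIdeal ∈ (Ideal.span {g}).minimalPrimes := by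
    refine ⟨⟨p.isPrime, (Ideal.span_singleton_le_iff_mem _).2 (not_not.1 ((hloc p).not.1 hw))⟩, fun r hr hrp => ?_⟩
    haveI := hr.1
    have := hmax (hW.fromSpec ⟨r, hr.1⟩) ((VarDim.fromSpec_specializes_iff hW ⟨r, hr.1⟩ p).2 hrp)
      (fun h => (hloc ⟨r, hr.1⟩).1 h ((Ideal.span_singleton_le_iff_mem _).1 hr.2))
    rw [← hW.fromSpec.isOpenEmbedding.injective this]
  haveI : (Ideal.span {g}).IsPrincipal := ⟨⟨g, rfl⟩⟩
  have hh := Ideal.height_le_one_of_isPrincipal_of_mem_minimalPrimes (Ideal.span {g}) p.asIdeal hmin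
  have hqlt : q.asIdeal < p.asIdeal := lt_of_le_of_ne hqp fun h => (hloc q).1 hyσ (by
    rw [h]; exact not_not.1 ((hloc p).not.1 hw))
  have hq0 : q.asIdeal = ⊥ := by
    haveI := q.isPrime
    haveI := p.isPrime
    by_contra hne
    have h0 : (⊥ : Ideal Γ(T, W)) < q.asIdeal := bot_lt_iff_ne_bot.2 hne
    have h1 : (⊥ : Ideal Γ(T, W)).height < q.asIdeal.height := Ideal.height_strict_mono_of_isPrime h0
    have h2 : q.asIdeal.height < p.asIdeal.height := Ideal.height_strict_mono_of_isPrime hqlt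
    have h3 : q.asIdeal.height < 1 := lt_of_lt_of_le h2 hh
    rw [ENat.lt_one_iff_eq_zero] at h3
    rw [h3] at h1
    exact not_lt_zero' h1
  obtain ⟨r, hr⟩ := VarDim.exists_fromSpec_eq hW ((genericPoint_specializes (hW.fromSpec q)).mem_open W.2
    (VarDim.fromSpec_mem hW q))
  rw [← hr]
  refine ((genericPoint_specializes (hW.fromSpec q)).trans (le_refl _) |>.antisymm ?_).eq.symm.trans hr.symm
  rw [← hr, VarDim.fromSpec_specializes_iff hW q r]
  show q.asIdeal ≤ r.asIdeal
  rw [hq0]
  exact bot_le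

end Groth.Agent.Pic13Lib.Hodge.Pencil
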