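import Groth.Agent.Pic13Lib.Hodge.Inter
import Groth.Agent.Pic13Lib.NumTrivProj
import Groth.Agent.ZeroSchX.Basic

/-!
# Numerical triviality from a hyperplane section
-/

set_option autoImplicit false
set_option linter.style.haveILetI false
set_option linter.unusedSectionVars false
set_option backward.isDefEq.respectTransparency false
set_option backward.isDefEq.respectTransparency.types false
set_option maxHeartbeats 1000000

universe u

open CategoryTheory CategoryTheory.Limits AlgebraicGeometry TopologicalSpace Opposite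
open Groth.Agent.H23 Groth.Agent.H23.PicMul Groth.Agent.H23.TrivBasic
open Groth.Agent.H23.IntNumCycle (alt)

attribute [local instance] PicMul.clMonoid

noncomputable section

namespace Groth.Agent.Pic13Lib.Hodge

/-- The points of the zero scheme are those where the section does not generate. -/
theorem mem_range_zeroScheme_iff {X : Scheme.{u}} {H : X.Modules} (hH : PicF.IsInvertible H)
    (φ : Coh.structureModule X ⟶ H) (x : X) :
    x ∈ Set.range (PicF2.zeroScheme H φ).subschemeι ↔ x ∉ CohB1.genLocus H φ := by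
  obtain ⟨U, hxU, ε, hε⟩ := InvX.exists_frame hH x
  obtain ⟨W, hW, hxW, hWU⟩ := exists_isAffineOpen_mem_and_subset hxU
  let ε' := AModX.res H (show W ≤ U from hWU) ε
  have hε' : InvX.IsFrame ε' := hε.res _
  obtain ⟨g, hg⟩ := hε'.exists_coord le_rfl (AModX.res H (le_top : W ≤ ⊤) (InvX.one φ))
  rw [AModX.res_self] at hg
  have hsv : ZeroSchX.sv φ W = g • ε' := by
    refine Eq.trans ?_ hg
    exact (ZeroSchX.res_sv φ (le_top : W ≤ ⊤)).symm
  rw [Scheme.IdealSheafData.range_subschemeι, SetLike.mem_coe,
    Scheme.IdealSheafData.mem_support_iff_of_mem (U := ⟨W, hW⟩) hxW, ZeroSchX.ideal_zeroScheme hH,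
    ZeroSchX.zeroIdealOn_eq_span φ hε' hsv, Scheme.zeroLocus_span, Scheme.mem_zeroLocus_iff]
  have hiff : x ∈ CohB1.genLocus H φ ↔ x ∈ X.basicOpen g := by
    rw [← InvX.genLocus_inf φ hε' hg]
    exact ⟨fun h => ⟨h, hxW⟩, fun h => h.1⟩
  rw [hiff]
  simp

variable {k : Type u} [Field k] [IsAlgClosed k] {Y : Scheme.{u}} [Y.Over (Spec (CommRingCat.of k))]
  [IsProper (Y ↘ Spec (CommRingCat.of k))]

/-- Numerically trivial on a closed reduced subscheme: the numbers with that entry vanish there. -/
theorem alt_closure_eq_zero {H L : Y.Modules} (hH : CohB1.IsAmple H) (hL : PicF.IsInvertible L) {z : Y} {r : ℕ}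
    (hz : SnapLead.δ k z = ((r + 1 : ℕ) : ℤ))
    (hnt : ∀ (C : Scheme.{u}) (ι : C ⟶ Y) [IsClosedImmersion ι], IsIntegral C → topologicalKrullDim C = 1 →
      (∀ c, z ⤳ ι c) → Pic13.curveDeg k (ι ≫ (Y ↘ Spec (CommRingCat.of k))) ((Scheme.Modules.pullback ι).obj L) = 0)
    {M : Fin r → Y.Modules} (hM : ∀ i, PicF.IsInvertible (M i)) :
    alt k (r + 1) (Fin.cons L M) (Cyc.closureStructureSheaf z) = 0 := by
  let Z := (IntMult.ptIdeal z).subscheme
  let j : Z ⟶ Y := (IntMult.ptIdeal z).subschemeι
  haveI : IsIntegral Z := QCoh.isIntegral_closure_point z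
  letI : Z.Over (Spec (CommRingCat.of k)) := ⟨j ≫ (Y ↘ Spec (CommRingCat.of k))⟩
  haveI : IsProper (Z ↘ Spec (CommRingCat.of k)) :=
    show IsProper (j ≫ (Y ↘ Spec (CommRingCat.of k))) from inferInstance
  haveI := CurveCohLib.isNoetherian_of_proper (k := k) (X := Z)
  have hrange : Set.range j = closure {z} := by
    rw [Scheme.IdealSheafData.range_subschemeι, IntMult.ptIdeal, Scheme.IdealSheafData.coe_support_vanishingIdeal]
    rfl
  have hdim : topologicalKrullDim Z = ((r + 1 : ℕ) : WithBot ℕ∞) := by
    refine (IsHomeomorph.topologicalKrullDim_eq _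
      (j.isClosedEmbedding.isEmbedding.toHomeomorph.isHomeomorph)).trans ?_
    rw [hrange]
    exact (IntAlt.delta_eq_iff k z (r + 1)).2 hz
  have hZ : NumTriv.IsNT k ((Scheme.Modules.pullback j).obj L) := by
    refine ⟨PicClLib.isInvertible_pullback j hL, fun C ι _ hCi hC => ?_⟩
    have h := hnt C (ι ≫ j) hCi hC fun c => specializes_iff_mem_closure.2 (hrange ▸ ⟨ι c, rfl⟩)
    rw [Category.assoc] at h
    rw [← h]
    exact NumTriv.curveDeg_congr k _ ((Scheme.Modules.pullbackComp _ _).app L)
  have hcons : ∀ i, PicF.IsInvertible ((Fin.cons L M : Fin (r + 1) → Y.Modules) i) := fun i => by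
    induction i using Fin.cases with
    | zero => simpa using hL
    | succ i => simpa using hM i
  have h0 : alt k (r + 1) (fun i => (Scheme.Modules.pullback j).obj ((Fin.cons L M : Fin (r + 1) → Y.Modules) i))
      (Coh.structureModule Z) = 0 := by
    rw [show (fun i => (Scheme.Modules.pullback j).obj ((Fin.cons L M : Fin (r + 1) → Y.Modules) i)) =
      Fin.cons ((Scheme.Modules.pullback j).obj L) (fun i => (Scheme.Modules.pullback j).obj (M i)) from
        funext fun i => by induction i using Fin.cases <;> rfl]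
    refine alt_cons_eq_zero fun I => ?_
    obtain ⟨P, hP, hPc⟩ : ∃ P : Z.Modules, PicF.IsInvertible P ∧
        PicF.cl P = ∏ i ∈ I, PicF.cl ((Scheme.Modules.pullback j).obj (M i)) := by
      induction I using Finset.induction with
      | empty => exact ⟨_, InvX.isInvertible_structureModule, PicMul.one_def.symm⟩
      | insert i I hi ih =>
        obtain ⟨P, hP, hPc⟩ := ih
        exact ⟨_, InvX.isInvertible_tensorMod (PicClLib.isInvertible_pullback j (hM i)) hP,
          by rw [cl_tensor, hPc, Finset.prod_insert hi]⟩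
    rw [← hPc, ← PicMul.one_def, one_mul, one_mul, mul_comm, ← cl_tensor, SurfPairing.χ_cl, SurfPairing.χ_cl]
    haveI : CompactSpace Z := QuasiCompact.compactSpace_of_compactSpace (j ≫ (Y ↘ Spec (CommRingCat.of k)))
    exact NumTriv.euler_tensor_proj (AmpleVan.FiniteSurj.isAmple_pullback_of_isAffineHom j hH) hZ
      (AmpleVan.isCoh_invertible hP)
  rw [Pic13Lib.alt_push j rfl hcons (TopInt.cohLe_structure k hdim.le)] at h0
  exact h0

/-- Restriction to the zero scheme of a section of an ample module detects numerical triviality. -/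
theorem isNumEquivZero_of_section {H : Y.Modules} (hH : CohB1.IsAmple H) (φ : Coh.structureModule Y ⟶ H)
    (hdim : ∀ Z ∈ irreducibleComponents (Y : Type u),
      ∀ W ∈ irreducibleComponents ↥(Z ∩ Set.range (PicF2.zeroScheme H φ).subschemeι.base), 2 ≤ topologicalKrullDim ↥W)
    {L : Y.Modules} (hL : PicF.IsInvertible L)
    (hnt : ∀ (C : Scheme.{u}) (ι : C ⟶ Y) [IsClosedImmersion ι], IsIntegral C → topologicalKrullDim C = 1 →
      (∀ c, ι c ∉ CohB1.genLocus H φ) →
        Pic13.curveDeg k (ι ≫ (Y ↘ Spec (CommRingCat.of k))) ((Scheme.Modules.pullback ι).obj L) = 0) :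
    Pic13.IsNumEquivZero k Y L := by
  classical
  intro C ι _ hCi hC
  haveI := hCi
  haveI := CurveCohLib.isNoetherian_of_proper (k := k) (X := Y)
  by_cases hin : ι (genericPoint C) ∈ CohB1.genLocus H φ
  swap
  · exact hnt C ι hCi hC fun c hc => hin (((genericPoint_specializes c).map ι.continuous).mem_open
      (CohB1.genLocus H φ).isOpen hc)
  let Z := irreducibleComponent (ι (genericPoint C))
  have hZi := irreducibleComponent_mem_irreducibleComponents (ι (genericPoint C))
  have hZc : IsClosed Z := isClosed_irreducibleComponent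
  let ξ := hZi.1.genericPoint
  have hξgen := hZi.1.isGenericPoint_genericPoint hZc
  have hξC : ∀ c, ξ ⤳ ι c := fun c =>
    (hξgen.specializes mem_irreducibleComponent).trans ((genericPoint_specializes c).map ι.continuous)
  have hξl : ξ ∈ CohB1.genLocus H φ :=
    (hξgen.specializes mem_irreducibleComponent).mem_open (CohB1.genLocus H φ).isOpen hin
  let T := (IntMult.ptIdeal ξ).subscheme
  let j : T ⟶ Y := (IntMult.ptIdeal ξ).subschemeι
  haveI : IsIntegral T := QCoh.isIntegral_closure_point ξ
  letI : T.Over (Spec (CommRingCat.of k)) := ⟨j ≫ (Y ↘ Spec (CommRingCat.of k))⟩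
  haveI : IsProper (T ↘ Spec (CommRingCat.of k)) :=
    show IsProper (j ≫ (Y ↘ Spec (CommRingCat.of k))) from inferInstance
  haveI := CurveCohLib.isNoetherian_of_proper (k := k) (X := T)
  haveI : CompactSpace T := QuasiCompact.compactSpace_of_compactSpace (j ≫ (Y ↘ Spec (CommRingCat.of k)))
  have hrange : Set.range j = closure {ξ} := by
    rw [Scheme.IdealSheafData.range_subschemeι, IntMult.ptIdeal, Scheme.IdealSheafData.coe_support_vanishingIdeal]
    rfl
  obtain ⟨r, hr⟩ : ∃ r : ℕ, SnapLead.δ k ξ = (r : ℤ) := ⟨_, NumTriv.delta_eq_deg ξ⟩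
  have hdimT : topologicalKrullDim T = ((r : ℕ) : WithBot ℕ∞) := by
    refine (IsHomeomorph.topologicalKrullDim_eq _
      (j.isClosedEmbedding.isEmbedding.toHomeomorph.isHomeomorph)).trans ?_
    rw [hrange]
    exact (IntAlt.delta_eq_iff k ξ r).2 hr
  have hr1 : 1 ≤ r := by
    have h1 := Pic13Lib.delta_generic_eq (k := k) ι 1 (by rw [hC, Nat.cast_one])
    by_cases hη : ι (genericPoint C) = ξ
    · rw [hη, hr] at h1
      omega
    · have h2 := (SnapLead.isDimFun k ξ (ι (genericPoint C)) (hξC _) (Ne.symm hη)).1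
      rw [hr, h1] at h2
      omega
  obtain ⟨s, rfl⟩ : ∃ s, r = s + 1 := ⟨r - 1, by omega⟩
  let HT := (Scheme.Modules.pullback j).obj H
  have hHT : CohB1.IsAmple HT := AmpleVan.FiniteSurj.isAmple_pullback_of_isAffineHom j hH
  obtain ⟨σ, hσ⟩ := Pic13Lib.exists_section_pullback j hH.1 (InvX.one φ)
  have hloc : ∀ z, z ∈ locus σ ↔ j z ∈ CohB1.genLocus H φ := fun z => by
    rw [hσ]
    show j z ∈ CohB1.genLocus _ (InvX.ofSect _) ↔ _
    rw [AVAmple.ofSect_one]
  have hgen : genericPoint T ∈ locus σ := by
    obtain ⟨z, hz⟩ : ξ ∈ Set.range j := hrange ▸ subset_closure rfl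
    exact (genericPoint_specializes z).mem_open (locus σ).isOpen ((hloc z).2 (hz ▸ hξl))
  have hσ0 : σ ≠ 0 := fun h => by
    obtain ⟨U, hU, hUf⟩ := mem_locus_iff.1 hgen
    rw [h, map_zero] at hUf
    haveI : Nonempty U := ⟨⟨_, hU⟩⟩
    exact zero_ne_one (hUf.coord_unique le_rfl (r := (0 : Γ(T, U))) (r' := 1) (by simp))
  let f := InvX.ofSect σ
  haveI := CurveAmple.mono_ofSect hHT.1 hσ0
  let S := ShortComplex.mk f (cokernel.π f) (cokernel.condition f)
  have hS : S.ShortExact :=
    .mk' (ShortComplex.exact_of_g_is_cokernel _ (cokernelIsCokernel f)) inferInstance inferInstance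
  have hOc : Coh.IsCoh (Coh.structureModule T) := QCoh.isCoh_structureModule'
  have hPc := AmpleVan.isCoh_invertible hHT.1
  have hQc : Coh.IsCoh (cokernel f) := QCoh.isCoh_cokernel hOc.1 hPc f
  have hsupp : ∀ z, z ∈ CohB1.support (cokernel f) → z ∉ locus σ := fun z hz => CurveAmple.support_cokernel_subset σ hz
  have hQ : Cyc.CohLe (SnapLead.δ k) s (cokernel f) := by
    refine ⟨hQc, fun z hz => ?_⟩
    have hzl : z ∉ locus σ := hsupp z (not_subsingleton_iff_nontrivial.2 hz)
    have h := (SnapLead.isDimFun k (genericPoint T) z (genericPoint_specializes z) (fun e => hzl (e ▸ hgen))).1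
    rw [TopInt.delta_generic k hdimT] at h
    push_cast at h
    omega
  -- the fundamental exact sequence in intersection numbers
  have hstep : ∀ M : Fin s → T.Modules, (∀ i, PicF.IsInvertible (M i)) →
      alt k (s + 1) (Fin.cons HT M) (Coh.structureModule T) = -alt k s M (cokernel f) := fun M hM => by
    rw [IntAlt.alt_succ]
    simp only [Fin.cons_zero, Fin.cons_succ]
    rw [show alt k s M (CohB1.tensorMod (Coh.structureModule T) HT) = alt k s M HT from by
        rw [IntAlt.alt_eq_sum, IntAlt.alt_eq_sum, cl_tensor, ← PicMul.one_def, one_mul],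
      IntNumCycle.alt_add k s M hM hS hOc hPc hQc]
    ring
  by_cases hs : s ≤ 1
  · -- no point of `T` outside the locus
    exfalso
    have hne : ∀ z, z ∈ locus σ := by
      intro z
      by_contra hz
      have hzX : j z ∈ Z ∩ Set.range (PicF2.zeroScheme H φ).subschemeι := by
        refine ⟨?_, (mem_range_zeroScheme_iff hH.1 φ (j z)).2 fun h => hz ((hloc z).2 h)⟩
        exact hξgen.def.le (hrange.le ⟨z, rfl⟩)
      let A : Set Y := Z ∩ Set.range (PicF2.zeroScheme H φ).subschemeι
      have h := hdim Z hZi _ (irreducibleComponent_mem_irreducibleComponents (⟨j z, hzX⟩ : ↥A))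
      have hA : IsClosed A := hZc.inter (PicF2.zeroScheme H φ).subschemeι.isClosedEmbedding.isClosed_range
      have hle : topologicalKrullDim ↥A ≤ ((s : ℕ) : WithBot ℕ∞) := by
        rw [VarDim.topologicalKrullDim_set_eq_iSup_deg (Y ↘ Spec (CommRingCat.of k)) hA]
        refine iSup_le fun ⟨y, hy⟩ => ?_
        have hne' : y ≠ ξ := fun e => (mem_range_zeroScheme_iff hH.1 φ y).1 hy.2 (e ▸ hξl)
        have h2 := (SnapLead.isDimFun k ξ y (hξgen.specializes hy.1) (Ne.symm hne')).1
        rw [hr, NumTriv.delta_eq_deg] at h2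
        have : VarDim.deg (Y ↘ Spec (CommRingCat.of k)) y ≤ s := by push_cast at h2; omega
        exact_mod_cast this
      have h3 := (h.trans (Topology.IsEmbedding.subtypeVal.isInducing.topologicalKrullDim_le)).trans hle
      have : (2 : ℕ) ≤ s := by exact_mod_cast h3
      omega
    have h0 := Pic13Lib.alt_structure_pos (k := k) (s + 1) T hdimT (fun _ => HT) fun _ => hHT
    rw [show (fun _ : Fin (s + 1) => HT) = Fin.cons HT (fun _ => HT) from
        funext fun i => by induction i using Fin.cases <;> rfl, hstep _ fun _ => hHT.1,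
      IntAlt.alt_eq_sum_closure k (fun _ => hHT.1) hQ ∅ (fun z hz => absurd hz (Finset.notMem_empty z))
        (fun z hz => absurd (hne z) (hsupp z
          (not_subsingleton_iff_nontrivial.2 (CycleClassK.nontrivial_of_sheafFun hz).2))),
      Finset.sum_empty, neg_zero, mul_zero] at h0
    exact lt_irrefl _ h0
  obtain ⟨t, rfl⟩ : ∃ t, s = t + 2 := ⟨s - 2, by omega⟩
  let LT := (Scheme.Modules.pullback j).obj L
  have hLT := PicClLib.isInvertible_pullback j hL
  have hzero : ∀ M : Fin (t + 1) → T.Modules, (∀ i, PicF.IsInvertible (M i)) →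
      alt k (t + 2) (Fin.cons LT M) (cokernel f) = 0 := by
    intro M hM
    have hfin := IntAlt.finite_sheafFun k hQ
    have hs' : ∀ z ∈ hfin.toFinset, SnapLead.δ k z = ((t + 2 : ℕ) : ℤ) := fun z hz =>
      (CycleClassK.nontrivial_of_sheafFun (hfin.mem_toFinset.1 hz)).1
    rw [IntAlt.alt_eq_sum_closure k (fun i => by
        induction i using Fin.cases with
        | zero => simpa using hLT
        | succ i => simpa using hM i) hQ hfin.toFinset hs' fun z hz => hfin.mem_toFinset.2 hz]
    refine Finset.sum_eq_zero fun z hz => mul_eq_zero_of_right _ ?_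
    refine alt_closure_eq_zero (r := t + 1) hHT hLT (hs' z hz) (fun D κ _ hDi hD hDz => ?_) hM
    have hzl := hsupp z (not_subsingleton_iff_nontrivial.2
      (CycleClassK.nontrivial_of_sheafFun (hfin.mem_toFinset.1 hz)).2)
    have h := hnt D (κ ≫ j) hDi hD fun c hc => hzl ((hDz c).mem_open (locus σ).isOpen ((hloc (κ c)).2 hc))
    rw [Category.assoc] at h
    rw [← h]
    exact NumTriv.curveDeg_congr k _ ((Scheme.Modules.pullbackComp _ _).app L)
  obtain ⟨ι', hι', hfac⟩ := exists_lift_closure ι ξ hξC
  haveI := hι'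
  have h1 : alt k (t + 3) (Fin.cons LT fun _ => HT) (Coh.structureModule T) = 0 := by
    rw [show (fun _ : Fin (t + 2) => HT) = Fin.cons HT (fun _ => HT) from
      funext fun i => by induction i using Fin.cases <;> rfl, alt_swap,
      hstep _ (fun i => by
        induction i using Fin.cases with
        | zero => simpa using hLT
        | succ i => simpa using hHT.1), hzero _ fun _ => hHT.1, neg_zero]
  have h2 : alt k (t + 3) (Fin.cons LT (Fin.cons LT fun _ => HT)) (Coh.structureModule T) = 0 := by
    rw [show alt k (t + 3) (Fin.cons LT (Fin.cons LT fun _ : Fin (t + 1) => HT)) (Coh.structureModule T) =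
        alt k (t + 3) (Fin.cons LT (Fin.cons HT (Fin.cons LT fun _ : Fin t => HT))) (Coh.structureModule T) from by
          rw [IntAlt.alt_succ, IntAlt.alt_succ k (Fin.cons LT (Fin.cons HT _))]
          simp only [Fin.cons_zero, Fin.cons_succ]
          rw [alt_swap HT LT, alt_swap HT LT]
          congr 3 <;>
            (rw [show (Fin.cons HT fun _ : Fin t => HT : Fin (t + 1) → T.Modules) = fun _ => HT from
              funext fun i => by induction i using Fin.cases <;> rfl]),
      alt_swap,
      hstep _ (fun i => by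
        induction i using Fin.cases with
        | zero => simpa using hLT
        | succ i => induction i using Fin.cases with
          | zero => simpa using hLT
          | succ i => simpa using hHT.1), hzero _ (fun i => by
        induction i using Fin.cases with
        | zero => simpa using hLT
        | succ i => simpa using hHT.1), neg_zero]
  have key := index_alt (t + 1) k T hdimT HT LT hHT hLT h1 (by rw [h2, mul_zero]) C ι' inferInstance hC
  rw [← key, show ι' ≫ (T ↘ Spec (CommRingCat.of k)) = ι ≫ (Y ↘ Spec (CommRingCat.of k)) by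
    show ι' ≫ j ≫ _ = _
    rw [← Category.assoc, hfac]]
  exact NumTriv.curveDeg_congr k _ (((Scheme.Modules.pullbackComp _ _).app L ≪≫
    (Scheme.Modules.pullbackCongr hfac).app L).symm)

end Groth.Agent.Pic13Lib.Hodge
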