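import Groth.Agent.Pic13Lib.SectBound
import Groth.Agent.Nakai.SurfCriterion
import Groth.Agent.Nakai.Growth
import Groth.Agent.Lib.SurfAmple
import Groth.Agent.S11907
import Groth.Agent.H23.InvStalk

/-!
# Slopes of coherent modules on an integral projective surface

The slope of `F` is `χ(F) - χ(F(-1))`.  It is nonnegative and insensitive to invertible twists on modules with
support of dimension at most one, bounds sections of invertible modules, and controls the top cohomology through
the dualizing sheaf.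
-/

set_option autoImplicit false
set_option linter.style.haveILetI false
set_option linter.unusedSectionVars false
set_option backward.isDefEq.respectTransparency false
set_option backward.isDefEq.respectTransparency.types false
set_option maxHeartbeats 1000000

universe u

open CategoryTheory CategoryTheory.Limits AlgebraicGeometry TopologicalSpace Opposite
open Groth.Agent.H23 Groth.Agent.H23.PicMul

attribute [local instance] PicMul.clMonoid

noncomputable section

namespace Groth.Agent.Pic13Lib.Hodge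

theorem torsion_eq_bot {X : Scheme.{u}} [IsIntegral X] {A : X.Modules} (hA : PicF.IsInvertible A) (x : X) :
    Submodule.torsion (X.presheaf.stalk x) (A.presheaf.stalk x) = ⊥ := by
  obtain ⟨e⟩ := InvStalk.exists_stalk_equiv hA x
  refine (Submodule.eq_bot_iff _).2 fun m ⟨⟨a, ha⟩, ham⟩ => ?_
  have h : a • e m = 0 := by
    rw [← map_smul]
    exact (congrArg e ham).trans (map_zero e)
  rw [smul_eq_mul] at h
  exact e.injective (((mem_nonZeroDivisors_iff.1 ha).1 _ h).trans (map_zero e).symm)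

theorem finrank_generic_eq_one {X : Scheme.{u}} [IsIntegral X] {A : X.Modules} (hA : PicF.IsInvertible A) :
    Module.finrank (X.presheaf.stalk (genericPoint X)) (A.presheaf.stalk (genericPoint X)) = 1 := by
  obtain ⟨e⟩ := InvStalk.exists_stalk_equiv hA (genericPoint X)
  exact e.finrank_eq.trans (Module.finrank_self _)

theorem notMem_support_iff_subsingleton {X : Scheme.{u}} {M : X.Modules} {x : X} :
    x ∉ CohB1.support M ↔ Subsingleton (M.presheaf.stalk x) := not_not

/-- A nonzero map to a torsion free module of generic rank one from a submodule of an invertible module is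
injective, with cokernel vanishing at the generic point. -/
theorem mono_and_notMem_of_ne_zero {X : Scheme.{u}} [IsIntegral X] [IsLocallyNoetherian X]
    {F A ω : X.Modules} (hF : Coh.IsCoh F) (hA : PicF.IsInvertible A) (hω : Coh.IsCoh ω) (j : F ⟶ A) [Mono j]
    (htf : ∀ x : X, Submodule.torsion (X.presheaf.stalk x) (ω.presheaf.stalk x) = ⊥)
    (hrk : Module.finrank (X.presheaf.stalk (genericPoint X)) (ω.presheaf.stalk (genericPoint X)) = 1)
    {φ : F ⟶ ω} (hφ : φ ≠ 0) : Mono φ ∧ genericPoint X ∉ CohB1.support (cokernel φ) := by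
  let η := genericPoint X
  letI : Field (X.presheaf.stalk η) := inferInstanceAs (Field X.functionField)
  have hAc := AmpleVan.isCoh_invertible hA
  have hjs : (ShortComplex.mk j (cokernel.π j) (cokernel.condition j)).ShortExact :=
    .mk' (ShortComplex.exact_of_g_is_cokernel _ (cokernelIsCokernel j)) ‹_› inferInstance
  have hj := (CycLib.stalk_shortExact hjs hF.1 hAc.1 (QCoh.isQCoh_cokernel hF.1 hAc.1 j) η).1
  obtain ⟨v₀, hv₀⟩ : ∃ v, CycLib.stalkLin φ η v ≠ 0 := by
    by_contra h
    push_neg at h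
    exact hφ (S11907.eq_zero_of_generic hω.1 htf φ h)
  -- the source has rank one at the generic point
  have hline : ∀ v : F.presheaf.stalk η, ∃ c : X.presheaf.stalk η, v = c • v₀ := by
    intro v
    have hne : CycLib.stalkLin j η v₀ ≠ 0 := fun h => hv₀ (by
      rw [hj (h.trans (map_zero (CycLib.stalkLin j η)).symm), map_zero])
    obtain ⟨c, hc⟩ := exists_smul_eq_of_finrank_eq_one (finrank_generic_eq_one hA) hne (CycLib.stalkLin j η v)
    exact ⟨c, hj (by rw [map_smul, hc])⟩
  have hinj : ∀ v, CycLib.stalkLin φ η v = 0 → v = 0 := fun v hv => by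
    obtain ⟨c, rfl⟩ := hline v
    rw [map_smul] at hv
    rw [(smul_eq_zero.1 hv).resolve_right hv₀, zero_smul]
  have hk : kernel.ι φ ≫ j = 0 := S11907.eq_zero_of_generic hAc.1 (torsion_eq_bot hA) _ fun v => by
    rw [S11907.stalkLin_comp]
    have : CycLib.stalkLin φ η (CycLib.stalkLin (kernel.ι φ) η v) = 0 := by
      rw [← S11907.stalkLin_comp, kernel.condition]
      obtain ⟨U, hU, m, rfl⟩ := (kernel φ).presheaf.exists_germ_eq v
      exact (CycLib.stalkAdd_germ _ η hU m).trans (map_zero _)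
    rw [hinj _ this, map_zero]
  have hmono : Mono φ := Preadditive.mono_of_kernel_zero ((cancel_mono j).1 (hk.trans zero_comp.symm))
  refine ⟨hmono, notMem_support_iff_subsingleton.2 ?_⟩
  have hs : (ShortComplex.mk φ (cokernel.π φ) (cokernel.condition φ)).ShortExact :=
    .mk' (ShortComplex.exact_of_g_is_cokernel _ (cokernelIsCokernel φ)) hmono inferInstance
  obtain ⟨-, hex, hsur⟩ := CycLib.stalk_shortExact hs hF.1 hω.1 (QCoh.isQCoh_cokernel hF.1 hω.1 φ) η
  refine subsingleton_of_forall_eq 0 fun q => ?_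
  obtain ⟨w, rfl⟩ := hsur q
  obtain ⟨c, hc⟩ := exists_smul_eq_of_finrank_eq_one hrk hv₀ w
  exact (hex w).2 ⟨c • v₀, by rw [map_smul]; exact hc⟩

variable {k : Type u} [Field k] [Infinite k] {n : ℕ} {X : Scheme.{u}} [X.Over (Spec (CommRingCat.of k))]
  [IsProper (X ↘ Spec (CommRingCat.of k))] [IsIntegral X] (i : X ⟶ CohB1.ProjSpace n k) [IsClosedImmersion i]

omit [IsIntegral X] in
theorem finrank_h0_quotient_le {S : ShortComplex X.Modules} (hS : S.ShortExact) (h₁ : Coh.IsCoh S.X₁)
    (h₂ : Coh.IsCoh S.X₂) (h₃ : Coh.IsCoh S.X₃) :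
    Module.finrank k (Coh.HH X S.X₃ 0) ≤
      Module.finrank k (Coh.HH X S.X₂ 0) + Module.finrank k (Coh.HH X S.X₁ 1) := by
  haveI := fun n => S0002.result k X S.X₁ h₁ n
  haveI := fun n => S0002.result k X S.X₂ h₂ n
  haveI := fun n => S0002.result k X S.X₃ h₃ n
  have e1 := (PnCoh.Finite.deltaLin k hS 0).finrank_range_add_finrank_ker
  rw [← Euler.range_mapLin_g k hS 0] at e1
  have := (PnCoh.Finite.mapLin k S.g 0).finrank_range_le
  have h1 : Module.finrank k (LinearMap.range (PnCoh.Finite.deltaLin k hS 0)) ≤ Module.finrank k (Coh.HH X S.X₁ 1) :=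
    Submodule.finrank_le _
  omega

/-- The slope `χ(F) - χ(F(-1))`. -/
def sl (F : X.Modules) : ℤ :=
  Curv2.euler k X F - SurfPairing.χ k (PicF.cl F * tw i (-1))

theorem sl_of_cl {F G : X.Modules} (h : PicF.cl F = PicF.cl G) : sl (k := k) i F = sl (k := k) i G := by
  rw [sl, sl, ← SurfPairing.χ_cl, ← SurfPairing.χ_cl, h]

theorem sl_add {S : ShortComplex X.Modules} (hS : S.ShortExact) (h₁ : Coh.IsCoh S.X₁) (h₂ : Coh.IsCoh S.X₂)
    (h₃ : Coh.IsCoh S.X₃) : sl (k := k) i S.X₂ = sl (k := k) i S.X₁ + sl (k := k) i S.X₃ := by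
  obtain ⟨S', hS', d1, d2, d3, e1, e2, e3⟩ := exists_ses_ten (isInvertible_tw i (-1)) hS h₁ h₂ h₃ rfl rfl rfl
  simp only [sl, tw_eq]
  rw [← e1, ← e2, ← e3, SurfPairing.χ_cl, SurfPairing.χ_cl, SurfPairing.χ_cl, Euler.euler_add k hS h₁ h₂ h₃,
    Euler.euler_add k hS' d1 d2 d3]
  ring

theorem euler_tensor_closedPoints {G A : X.Modules} (hG : Coh.IsCoh G) (hA : PicF.IsInvertible A)
    (h0 : ∀ x ∈ CohB1.support G, IsClosed ({x} : Set X)) :
    Curv2.euler k X (CohB1.tensorMod G A) = Curv2.euler k X G := by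
  haveI := CurveCohLib.isNoetherian_of_proper (k := k) (X := X)
  have hcl : IsClosed (CohB1.support G) := QCoh.isClosed_support_of_isFT hG.1 hG.2
  have hfin := CurveCohLib.finite_of_closedPoints hcl h0
  haveI : Finite ↥(CohB1.support G) := hfin.to_subtype
  haveI : T1Space ↥(CohB1.support G) := ⟨fun x => ⟨by
    have h : IsClosed (Subtype.val ⁻¹' ({x.1} : Set X) : Set ↥(CohB1.support G)) :=
      (h0 x.1 x.2).preimage continuous_subtype_val
    have : (Subtype.val ⁻¹' ({x.1} : Set X) : Set ↥(CohB1.support G)) = {x} := by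
      ext y; simp [Subtype.ext_iff]
    rw [this] at h
    exact h.isOpen_compl⟩⟩
  haveI : DiscreteTopology ↥(CohB1.support G) := Finite.instDiscreteTopology
  have hC : topologicalKrullDim ((⟨CohB1.support G, hcl⟩ : Closeds X) : Set X) < (1 : ℕ) := by
    show topologicalKrullDim ↥(CohB1.support G) < _
    refine lt_of_le_of_lt ?_ (show ((0 : ℕ) : WithBot ℕ∞) < (1 : ℕ) by exact_mod_cast one_pos)
    rcases isEmpty_or_nonempty ↥(CohB1.support G) with h | h
    · haveI : IsEmpty (IrreducibleCloseds ↥(CohB1.support G)) := ⟨fun Z => h.elim Z.2.1.some⟩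
      exact le_of_eq_of_le Order.krullDim_eq_bot bot_le
    · exact_mod_cast topologicalKrullDim_zero_of_discreteTopology ↥(CohB1.support G)
  exact sub_eq_zero.1 (Nakai.cdiff_eq_zero k hA hG ⟨CohB1.support G, hcl⟩ hC le_rfl)

variable (hdim : topologicalKrullDim X = 2)

include hdim in
/-- The slope of a module with support of dimension at most one. -/
theorem sl_small {F : X.Modules} (hF : Coh.IsCoh F) (hη : genericPoint X ∉ CohB1.support F) :
    0 ≤ sl (k := k) i F ∧ ∀ A : X.Modules, PicF.IsInvertible A → ∀ M M' : X.Modules,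
      PicF.cl M = PicF.cl F * PicF.cl A → PicF.cl M' = PicF.cl F * tw i (-1) * PicF.cl A →
      sl (k := k) i M = sl (k := k) i F ∧ (Module.finrank k (Coh.HH X M 0) : ℤ) ≤ (Module.finrank k (Coh.HH X M' 0) : ℤ) + sl (k := k) i F := by
  haveI := CurveCohLib.isNoetherian_of_proper (k := k) (X := X)
  obtain ⟨G, hG, hGs, hseq⟩ := exists_hyp i hF
  let p := X ↘ Spec (CommRingCat.of k)
  have h0 : ∀ x ∈ CohB1.support G, IsClosed ({x} : Set X) := fun x hx => by
    obtain ⟨y, hy, hyx, hne⟩ := hGs x hx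
    have hη2 : VarDim.deg p (genericPoint X) = 2 := by
      have h := (VarDim.topologicalKrullDim_eq_deg_genericPoint p).symm.trans hdim
      exact_mod_cast WithBot.coe_inj.1 h
    have h1 := NefCrit.deg_lt_of_mem_closure (k := k) (specializes_iff_mem_closure.1 hyx) (Ne.symm hne)
    have h2 := NefCrit.deg_lt_of_mem_closure (k := k)
      (specializes_iff_mem_closure.1 (genericPoint_specializes y)) (fun h => hη (h ▸ hy))
    refine (VarDim.closedPoint_iff_deg_eq_zero (X ↘ Spec (CommRingCat.of k)) x).2 ?_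
    simp only [p] at hη2; omega
  have hsl : ∀ A : X.Modules, PicF.IsInvertible A → ∀ M M' : X.Modules,
      PicF.cl M = PicF.cl F * PicF.cl A → PicF.cl M' = PicF.cl F * tw i (-1) * PicF.cl A →
      sl (k := k) i M = (Module.finrank k (Coh.HH X G 0) : ℤ) ∧ (Module.finrank k (Coh.HH X M 0) : ℤ) ≤ (Module.finrank k (Coh.HH X M' 0) : ℤ) + (Module.finrank k (Coh.HH X G 0) : ℤ) := by
    intro A hA M M' hM hM'
    obtain ⟨S, hS, d1, d2, d3, e1, e2, e3⟩ := hseq A hA
    have hGA : Curv2.euler k X S.X₃ = Module.finrank k (Coh.HH X G 0) := by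
      rw [← SurfPairing.χ_cl, e3, ← cl_tensor, SurfPairing.χ_cl, euler_tensor_closedPoints hG hA h0]
      exact CurveCohLib.euler_eq_finrank_zero hG h0
    refine ⟨?_, ?_⟩
    · rw [sl, ← SurfPairing.χ_cl, hM, mul_assoc, mul_comm (PicF.cl A), ← mul_assoc, ← e1, ← e2,
        SurfPairing.χ_cl, SurfPairing.χ_cl, Euler.euler_add k hS d1 d2 d3, hGA]
      ring
    · have h3 : ∀ x ∈ CohB1.support S.X₃, IsClosed ({x} : Set X) := fun x hx => by
        obtain ⟨e⟩ := cl_eq_iff.1 (e3.trans (cl_tensor G A).symm)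
        rw [QCoh.support_iso e d3.1] at hx
        obtain ⟨c⟩ := PicMul.comm G A
        rw [QCoh.support_iso c (AmpleVan.isCoh_tensor hG (AmpleVan.isCoh_invertible hA)).1] at hx
        exact h0 x (CurveTensor.support_tensor_subset hx)
      have hG0 : (Module.finrank k (Coh.HH X S.X₃ 0) : ℤ) = Module.finrank k (Coh.HH X G 0) := (CurveCohLib.euler_eq_finrank_zero d3 h3).symm.trans hGA
      have hb := (S17630.bounds k hS d1 d2 d3 0).1
      rw [NumTriv.finrank_of_cl (M := M) (N := S.X₂) (hM.trans e2.symm),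
        NumTriv.finrank_of_cl (M := M') (N := S.X₁) (hM'.trans e1.symm), ← hG0]
      exact_mod_cast hb
  have hF0 : sl (k := k) i F = (Module.finrank k (Coh.HH X G 0) : ℤ) := by
    refine (hsl (Coh.structureModule X) InvX.isInvertible_structureModule F (CohB1.tensorMod F (NumTriv.twMod i (-1)))
      (mul_one _).symm ?_).1
    rw [cl_tensor, ← PicMul.one_def, mul_one]
    rfl
  exact ⟨hF0 ▸ Int.natCast_nonneg _, fun A hA M M' hM hM' => by rw [hF0]; exact hsl A hA M M' hM hM'⟩

theorem sl_invertible {A : X.Modules} :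
    sl (k := k) i A = sl (k := k) i (Coh.structureModule X) - SurfPairing.pair k (PicF.cl A) (tw i (-1)) := by
  rw [sl, sl, ← SurfPairing.χ_cl, ← SurfPairing.χ_one, ← PicMul.one_def, one_mul, SurfPairing.pair]
  ring

include hdim in
theorem pair_tw {A : X.Modules} (hA : PicF.IsInvertible A) :
    SurfPairing.pair k (PicF.cl A) (tw i 1) = sl (k := k) i A - sl (k := k) i (Coh.structureModule X) := by
  have h : PicF.cl ((Scheme.Modules.pullback i).obj (Twist.twistProjSpace n k (1 : ℤ))) *
      PicF.cl ((Scheme.Modules.pullback i).obj (Twist.twistProjSpace n k (-1 : ℤ))) = 1 := by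
    show tw i 1 * tw i (-1) = 1
    rw [← tw_add, add_neg_cancel, tw_zero]
  have h2 := SurfPairing.pair_inv k hdim.le hA (isInvertible_tw i 1) (isInvertible_tw i (-1)) h
  rw [sl_invertible (k := k) i (A := A)]
  rw [← tw_eq, ← tw_eq] at h2
  rw [h2]
  ring

include hdim in
/-- The square of the hyperplane class is positive. -/
theorem pair_tw_tw_pos : 0 < SurfPairing.pair k (tw i 1) (tw i 1) := by
  haveI : CompactSpace X := QuasiCompact.compactSpace_of_compactSpace (X ↘ Spec (CommRingCat.of k))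
  have hH : CohB1.IsAmple (NumTriv.twMod i 1) :=
    AmpleVan.FiniteSurj.isAmple_pullback_of_isAffineHom i NumTriv.isAmple_twistProjSpace_one
  have hη : VarDim.deg (X ↘ Spec (CommRingCat.of k)) (genericPoint X) = 2 := by
    have h := (VarDim.topologicalKrullDim_eq_deg_genericPoint (X ↘ Spec (CommRingCat.of k))).symm.trans hdim
    exact_mod_cast WithBot.coe_inj.1 h
  let H := NumTriv.twMod i 1
  let a : ℤ := SurfPairing.pair k (PicF.cl H) (PicF.cl H)
  let b : ℤ := 2 * (Curv2.euler k X H - Curv2.euler k X (Coh.structureModule X)) - a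
  let c : ℤ := 2 * Curv2.euler k X (Coh.structureModule X)
  let Q : Polynomial ℚ := Polynomial.C ((a : ℚ) / 2) * Polynomial.X ^ 2 + Polynomial.C ((b : ℚ) / 2) * Polynomial.X +
    Polynomial.C ((c : ℚ) / 2)
  have hQ : ∀ m : ℕ, (Curv2.euler k X (CohB1.tensorPow H m) : ℚ) = Q.eval (m : ℚ) := fun m => by
    have h := Nakai.euler_pow_surface (k := k) hdim.le hH.1 m
    have h' : (2 : ℚ) * Curv2.euler k X (CohB1.tensorPow H m) = (a : ℚ) * (m : ℚ) ^ 2 + (b : ℚ) * m + c := by
      exact_mod_cast h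
    simp only [Q, Polynomial.eval_add, Polynomial.eval_mul, Polynomial.eval_C, Polynomial.eval_pow, Polynomial.eval_X]
    linarith
  have h := (Nakai.coeff_pos_of_ample k 2 X hη hH Q hQ).2
  simp only [Q, Polynomial.coeff_add, Polynomial.coeff_C_mul, Polynomial.coeff_X_pow_self, Polynomial.coeff_X,
    Polynomial.coeff_C] at h
  norm_num at h
  rw [tw_eq]
  exact_mod_cast h

include hdim in
/-- An invertible module with sections has nonnegative degree and boundedly many sections. -/
theorem exists_h0_bound (e : ℤ) : ∃ B : ℕ, ∀ A : X.Modules, PicF.IsInvertible A →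
    SurfPairing.pair k (PicF.cl A) (tw i 1) = e → Module.finrank k (Coh.HH X A 0) ≤ B := by
  haveI := CurveCohLib.isNoetherian_of_proper (k := k) (X := X)
  have main : ∀ A : X.Modules, PicF.IsInvertible A → Module.finrank k (Coh.HH X A 0) ≠ 0 → ∃ Q : X.Modules,
      ∃ S : ShortComplex X.Modules, S.ShortExact ∧ S.X₁ = Coh.structureModule X ∧ S.X₂ = A ∧ S.X₃ = Q ∧
        Coh.IsCoh Q ∧ genericPoint X ∉ CohB1.support Q ∧
        sl (k := k) i Q = SurfPairing.pair k (PicF.cl A) (tw i 1) := by
    intro A hA h0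
    obtain ⟨φ, hφ⟩ := CurveRR.exists_hom_ne_zero k (P := A) h0
    have hO := AmpleVan.isCoh_invertible (InvX.isInvertible_structureModule (X := X))
    have hAc := AmpleVan.isCoh_invertible hA
    obtain ⟨hm, hs⟩ := mono_and_notMem_of_ne_zero hO InvX.isInvertible_structureModule hAc (𝟙 _)
      (torsion_eq_bot hA) (finrank_generic_eq_one hA) hφ
    have hC := QCoh.isCoh_cokernel hO.1 hAc φ
    have hS : (ShortComplex.mk φ (cokernel.π φ) (cokernel.condition φ)).ShortExact :=
      .mk' (ShortComplex.exact_of_g_is_cokernel _ (cokernelIsCokernel φ)) hm inferInstance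
    refine ⟨cokernel φ, _, hS, rfl, rfl, rfl, hC, hs, ?_⟩
    have h := sl_add (k := k) i hS hO hAc hC
    rw [pair_tw i hdim hA]
    dsimp only at h
    omega
  have hneg : ∀ A : X.Modules, PicF.IsInvertible A → SurfPairing.pair k (PicF.cl A) (tw i 1) < 0 → Module.finrank k (Coh.HH X A 0) = 0 := by
    intro A hA hlt
    by_contra h0
    obtain ⟨Q, S, -, -, -, -, hQ, hQη, hsl⟩ := main A hA h0
    have := (sl_small i hdim hQ hQη).1
    omega
  let t : ℕ := e.toNat + 1
  refine ⟨Module.finrank k (Coh.HH X (Coh.structureModule X) 0) + Module.finrank k (Coh.HH X (NumTriv.twMod i (-(t : ℤ))) 1) + t * e.toNat, fun A hA he => ?_⟩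
  by_cases h0 : Module.finrank k (Coh.HH X A 0) = 0
  · rw [h0]; exact Nat.zero_le _
  obtain ⟨Q, S, hS, e1, e2, e3, hQ, hQη, hsl⟩ := main A hA h0
  rw [he] at hsl
  have c1 : Coh.IsCoh S.X₁ := e1 ▸ AmpleVan.isCoh_invertible InvX.isInvertible_structureModule
  have c2 : Coh.IsCoh S.X₂ := e2 ▸ AmpleVan.isCoh_invertible hA
  have c3 : Coh.IsCoh S.X₃ := e3 ▸ hQ
  let Qt : ℕ → X.Modules := fun s => CohB1.tensorMod Q (NumTriv.twMod i (-(s : ℤ)))
  have hstep : ∀ s : ℕ, Module.finrank k (Coh.HH X (Qt s) 0) ≤ Module.finrank k (Coh.HH X (Qt (s + 1)) 0) + e.toNat := by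
    intro s
    have h := ((sl_small i hdim hQ hQη).2 (NumTriv.twMod i (-(s : ℤ))) (isInvertible_tw i _) (Qt s) (Qt (s + 1))
      (cl_tensor _ _) (by
        rw [cl_tensor, mul_assoc]
        show _ * tw i (-((s + 1 : ℕ) : ℤ)) = _ * (tw i (-1) * tw i (-(s : ℤ)))
        rw [← tw_add]
        push_cast
        ring_nf)).2
    have := Int.self_le_toNat e
    omega
  have hall : ∀ s : ℕ, Module.finrank k (Coh.HH X (Qt 0) 0) ≤ Module.finrank k (Coh.HH X (Qt s) 0) + s * e.toNat := by
    intro s
    induction s with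
    | zero => simp
    | succ s ih => have := hstep s; rw [add_mul, one_mul]; omega
  obtain ⟨T, hT, d1, d2, d3, f1, f2, f3⟩ := exists_ses_ten (isInvertible_tw i (-(t : ℤ))) hS c1 c2 c3 rfl rfl rfl
  have hT2i : PicF.IsInvertible (CohB1.tensorMod A (NumTriv.twMod i (-(t : ℤ)))) :=
    InvX.isInvertible_tensorMod hA (isInvertible_tw i _)
  have hAt : Module.finrank k (Coh.HH X T.X₂ 0) = 0 := by
    rw [NumTriv.finrank_of_cl (N := CohB1.tensorMod A (NumTriv.twMod i (-(t : ℤ)))) (by rw [f2, e2, cl_tensor])]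
    refine hneg _ hT2i ?_
    have hpos := pair_tw_tw_pos (k := k) i hdim
    have hinv : tw i (t : ℤ) * tw i (-(t : ℤ)) = 1 := by rw [← tw_add, add_neg_cancel, tw_zero]
    have h1 := SurfPairing.pair_inv k hdim.le (isInvertible_tw i 1) (isInvertible_tw i (t : ℤ))
      (isInvertible_tw i (-(t : ℤ))) hinv
    have h2 := SurfPairing.pair_mul k hdim.le (isInvertible_tw i 1) hA (isInvertible_tw i (-(t : ℤ)))
    have h3 := SurfAmple.pair_pow (k := k) hdim.le (isInvertible_tw i 1) (isInvertible_tw i 1) t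
    have h4 : PicF.cl (CohB1.tensorPow (NumTriv.twMod i 1) t) = tw i (t : ℤ) := by
      rw [cl_tensorPow]
      show twCl i (Multiplicative.ofAdd 1) ^ t = twCl i (Multiplicative.ofAdd _)
      rw [← map_pow, ← ofAdd_nsmul]
      simp
    simp only [← tw_eq] at h1 h2 h3
    rw [h4] at h3
    rw [cl_tensor, ← tw_eq, SurfPairing.pair_comm, h2, SurfPairing.pair_comm k (tw i 1), he, h1, h3]
    have := Int.self_le_toNat e
    have htt : (t : ℤ) = e.toNat + 1 := by simp [t]
    nlinarith
  have hb := (S17630.bounds k hS c1 c2 c3 0).1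
  have hb2 : Module.finrank k (Coh.HH X T.X₃ 0) ≤ Module.finrank k (Coh.HH X T.X₂ 0) + Module.finrank k (Coh.HH X T.X₁ 1) := finrank_h0_quotient_le hT d1 d2 d3
  rw [e1, e2, e3] at hb
  have hQ0 : Module.finrank k (Coh.HH X Q 0) = Module.finrank k (Coh.HH X (Qt 0) 0) := NumTriv.finrank_of_cl (by
    rw [cl_tensor]
    show _ = PicF.cl Q * tw i (-((0 : ℕ) : ℤ))
    simp [tw_zero]) 0
  have hQt : Module.finrank k (Coh.HH X (Qt t) 0) = Module.finrank k (Coh.HH X T.X₃ 0) := NumTriv.finrank_of_cl (by rw [cl_tensor, f3, e3]) 0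
  have hO1 : Module.finrank k (Coh.HH X T.X₁ 1) = Module.finrank k (Coh.HH X (NumTriv.twMod i (-(t : ℤ))) 1) :=
    NumTriv.finrank_of_cl (by rw [f1, e1, ← PicMul.one_def, one_mul]) 1
  have := hall t
  omega

end Groth.Agent.Pic13Lib.Hodge
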