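import Groth.Agent.Pic13Lib.Hodge.Slope
import Groth.Agent.Pic13Lib.Hodge.Deg
import Groth.Agent.Nakai.Section
import Groth.Agent.S11909
import Groth.Agent.Pic13Lib.NumTrivProj
import Groth.Agent.Lib.DualSheaf

/-!
# The Hodge index theorem on integral projective surfaces

An invertible module orthogonal to the hyperplane class with nonnegative square is numerically equivalent to zero.
-/

set_option autoImplicit false
set_option linter.style.haveILetI false
set_option linter.unusedSectionVars false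
set_option backward.isDefEq.respectTransparency false
set_option backward.isDefEq.respectTransparency.types false
set_option maxHeartbeats 1000000

universe u

open CategoryTheory CategoryTheory.Limits AlgebraicGeometry TopologicalSpace Opposite
open Groth.Agent.H23 Groth.Agent.H23.PicMul

attribute [local instance] PicMul.clMonoid

noncomputable section

namespace Groth.Agent.Pic13Lib.Hodge

theorem nonpos_of_bounded {a c B : ℤ} (h : ∀ m : ℕ, a * m + c ≤ B) : a ≤ 0 := by
  by_contra ha
  push_neg at ha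
  have h1 := h ((B - c).toNat + 1)
  push_cast at h1
  nlinarith [Int.self_le_toNat (B - c), Int.natCast_nonneg (B - c).toNat]

theorem eq_zero_of_bounded {q b c B : ℤ} (hq : 0 ≤ q) (h : ∀ m : ℕ, q * (m : ℤ) ^ 2 + b * m + c ≤ B) :
    q = 0 ∧ b ≤ 0 := by
  have hq0 : q = 0 := by
    by_contra hne
    have hq1 : 1 ≤ q := by omega
    let m : ℕ := b.natAbs + (B - c).natAbs + 2
    have h1 := h m
    have hb := abs_le.1 (le_refl |b|)
    have hm : (m : ℤ) = |b| + |B - c| + 2 := by simp [m]
    nlinarith [abs_nonneg b, abs_nonneg (B - c), le_abs_self (B - c), neg_abs_le b,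
      mul_le_mul_of_nonneg_right hq1 (sq_nonneg (m : ℤ))]
  exact ⟨hq0, nonpos_of_bounded (c := c) (B := B) fun m => by
    have := h m; rw [hq0, zero_mul, zero_add] at this; exact this⟩

variable {k : Type u} [Field k] [Infinite k] {n : ℕ} {X : Scheme.{u}} [X.Over (Spec (CommRingCat.of k))]
  [IsProper (X ↘ Spec (CommRingCat.of k))] [IsIntegral X] (i : X ⟶ CohB1.ProjSpace n k) [IsClosedImmersion i]
  (hi : i ≫ CohB1.ProjSpace.toSpec n k = X ↘ Spec (CommRingCat.of k))
  (hdim : topologicalKrullDim X = 2)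

include hi hdim in
/-- Top cohomology vanishes on submodules of invertible modules of large slope. -/
theorem exists_h2_vanishing : ∃ c : ℤ, ∀ (F A : X.Modules) (j : F ⟶ A), Mono j → Coh.IsCoh F → PicF.IsInvertible A →
    c < sl (k := k) i F → Subsingleton (Coh.HH X F 2) := by
  let P := CohB1.ProjSpace n k
  haveI : IsNoetherian P := NegVanStalk.noetherian k n
  haveI : IsLocallyNoetherian X := LocallyOfFiniteType.isLocallyNoetherian i
  have hr2 : topologicalKrullDim X = ((2 : ℕ) : WithBot ℕ∞) := hdim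
  have hn : (2 : ℕ) ≤ n := by
    have h := i.isClosedEmbedding.isInducing.topologicalKrullDim_le
    rw [hr2, S10829.result k n] at h
    exact_mod_cast h
  have heq : ∀ Z : Set ↥X, Z ∈ irreducibleComponents ↥X → topologicalKrullDim ↥Z = ((2 : ℕ) : WithBot ℕ∞) := fun Z hZ => by
    rw [irreducibleComponents_eq_singleton, Set.mem_singleton_iff] at hZ
    subst hZ
    rw [← hr2]
    exact IsHomeomorph.topologicalKrullDim_eq _ (Homeomorph.Set.univ _).isHomeomorph
  haveI : ModSite.HasSheafHom (O := P.sheaf) ((Scheme.Modules.pushforward i).obj (Coh.structureModule X)) :=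
    SheafHomX.isLeftAdjoint_ten _
  haveI : HasInjectiveResolutions P.Modules := inferInstance
  haveI : HasInjectiveResolutions (ModSite.Mod P.sheaf) := inferInstanceAs (HasInjectiveResolutions P.Modules)
  let L := Twist.twistProjSpace n k (-((n : ℤ) + 1))
  let I : InjectiveResolution L := InjectiveResolution.of _
  obtain ⟨a0⟩ := ClosedShriek.nonempty_homology_iso i I (n - 2)
  let ω := (ClosedShriek.scx i I).homology (n - 2)
  obtain ⟨t, ht⟩ := DualSheaf.exists_trace i hi 2 (n - 2) (by omega) hr2.le ω ⟨a0⟩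
  have hω : Coh.IsCoh ω := by
    have hpush : Coh.IsCoh ((Scheme.Modules.pushforward i).obj ω) :=
      SheafHomX.isCoh_of_iso a0.symm (DualSheaf.isCoh_omega i _)
    haveI := KZ.ClosedDev.isIso_counit i hpush.1
    exact SheafHomX.isCoh_of_iso (asIso ((Scheme.Modules.pullbackPushforwardAdjunction i).counit.app ω))
      (KZ.ClosedDev.isCoh_pull i hpush)
  obtain ⟨htf, hrk⟩ := S11909.result k n 2 hn X i heq ω ⟨a0⟩
  have hgen : closure ({genericPoint X} : Set X) ∈ irreducibleComponents ↥X := by
    rw [irreducibleComponents_eq_singleton, Set.mem_singleton_iff]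
    exact genericPoint_spec _
  refine ⟨sl (k := k) i ω, fun F A j hj hF hA hlt => ?_⟩
  haveI := CurveCohLib.finite_HH (k := k) hF 2
  refine (Module.subsingleton_dual_iff k).1 (subsingleton_of_forall_eq 0 fun ψ => ?_)
  obtain ⟨φ, hφ, -⟩ := ht F hF ψ
  by_cases h0 : φ = 0
  · subst h0
    refine LinearMap.ext fun x => (hφ x).trans ?_
    rw [Functor.map_zero]
    show t (((Sheaf.functorH _ 2).map 0).hom x) = _
    rw [Functor.map_zero]
    exact map_zero t
  · obtain ⟨hm, hs⟩ := mono_and_notMem_of_ne_zero hF hA hω j htf (hrk _ hgen) h0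
    have hC := QCoh.isCoh_cokernel hF.1 hω φ
    have h1 := sl_add (k := k) i (S := ShortComplex.mk φ (cokernel.π φ) (cokernel.condition φ))
      (.mk' (ShortComplex.exact_of_g_is_cokernel _ (cokernelIsCokernel φ)) hm inferInstance) hF hω hC
    have h2 := (sl_small (k := k) i hdim hC hs).1
    dsimp only at h1
    omega

omit [IsIntegral X] in
include hdim in
theorem euler_le_h0 {M : X.Modules} (hM : Coh.IsCoh M) (h2 : Subsingleton (Coh.HH X M 2)) :
    Curv2.euler k X M ≤ Module.finrank k (Coh.HH X M 0) := by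
  haveI := CurveCohLib.isNoetherian_of_proper (k := k) (X := X)
  haveI : X.IsSeparated := ⟨by
    rw [← Limits.terminal.comp_from (X ↘ Spec (CommRingCat.of k))]
    infer_instance⟩
  rw [Euler.euler_eq_sum k M 3 fun q hq =>
    Snapper.subsingleton_HH_of_dim_le (d := 2) hdim.le hM.1 (by omega)]
  simp only [Finset.sum_range_succ, Finset.sum_range_zero,
    Module.finrank_zero_of_subsingleton (R := k) (M := Coh.HH X M 2)]
  push_cast
  ring_nf
  linarith [Int.natCast_nonneg (Module.finrank k (Coh.HH X M 1))]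

include hi hdim in
/-- Bounded Euler characteristics along the powers of a module orthogonal to the hyperplane class. -/
theorem step {L : X.Modules} (hL : PicF.IsInvertible L) (hLH : SurfPairing.pair k (PicF.cl L) (tw i 1) = 0)
    (hLL : 0 ≤ SurfPairing.pair k (PicF.cl L) (PicF.cl L)) :
    SurfPairing.pair k (PicF.cl L) (PicF.cl L) = 0 ∧
      2 * (Curv2.euler k X L - Curv2.euler k X (Coh.structureModule X)) ≤ 0 ∧
      (Curv2.euler k X L = Curv2.euler k X (Coh.structureModule X) →
        ∀ (Y : Scheme.{u}) (ι : Y ⟶ X) [IsClosedImmersion ι], IsIntegral Y → topologicalKrullDim Y = 1 →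
          0 ≤ Pic13.curveDeg k (ι ≫ (X ↘ Spec (CommRingCat.of k))) ((Scheme.Modules.pullback ι).obj L)) := by
  haveI := CurveCohLib.isNoetherian_of_proper (k := k) (X := X)
  obtain ⟨c₀, hc₀⟩ := exists_h2_vanishing (k := k) i hi hdim
  let H := NumTriv.twMod i 1
  have hH : PicF.IsInvertible H := isInvertible_tw i 1
  have hHH := pair_tw_tw_pos (k := k) i hdim
  let σ := sl (k := k) i (Coh.structureModule X)
  let q := SurfPairing.pair k (PicF.cl L) (PicF.cl L)
  let b := 2 * (Curv2.euler k X L - Curv2.euler k X (Coh.structureModule X)) - q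
  let N : ℕ → ℕ → X.Modules := fun m h => CohB1.tensorMod (CohB1.tensorPow L m) (CohB1.tensorPow H h)
  have hN : ∀ m h, PicF.IsInvertible (N m h) := fun m h =>
    PicMul.isInvertible_tensor (PicMul.isInvertible_tensorPow hL m) (PicMul.isInvertible_tensorPow hH h)
  have hLm : ∀ m h, SurfPairing.pair k (PicF.cl (CohB1.tensorPow L m)) (PicF.cl (CohB1.tensorPow H h)) = 0 := by
    intro m h
    rw [SurfAmple.pair_pow hdim.le (PicMul.isInvertible_tensorPow hL m) hH h, SurfPairing.pair_comm,
      SurfAmple.pair_pow hdim.le hH hL m, SurfPairing.pair_comm, ← tw_eq, hLH, mul_zero, mul_zero]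
  have hNH : ∀ m h, SurfPairing.pair k (PicF.cl (N m h)) (tw i 1) = h * SurfPairing.pair k (tw i 1) (tw i 1) := by
    intro m h
    rw [SurfPairing.pair_comm, tw_eq, cl_tensor,
      SurfPairing.pair_mul k hdim.le hH (PicMul.isInvertible_tensorPow hL m) (PicMul.isInvertible_tensorPow hH h),
      SurfAmple.pair_pow hdim.le hH hL m, SurfAmple.pair_pow hdim.le hH hH h,
      SurfPairing.pair_comm k _ (PicF.cl L), ← tw_eq, hLH, mul_zero, zero_add]
  have hslN : ∀ m h, sl (k := k) i (N m h) = σ + h * SurfPairing.pair k (tw i 1) (tw i 1) := fun m h => by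
    have := pair_tw (k := k) i hdim (hN m h)
    rw [hNH] at this
    simp only [σ]
    omega
  have hχ : ∀ m h, 2 * Curv2.euler k X (N m h) = q * (m : ℤ) ^ 2 + b * m +
      2 * Curv2.euler k X (CohB1.tensorPow H h) := fun m h => by
    have h1 := hLm m h
    rw [SurfPairing.pair, ← cl_tensor, SurfPairing.χ_cl, SurfPairing.χ_cl, SurfPairing.χ_cl, SurfPairing.χ_one] at h1
    have h2 := Nakai.euler_pow_surface (k := k) hdim.le hL m
    show 2 * Curv2.euler k X (CohB1.tensorMod (CohB1.tensorPow L m) (CohB1.tensorPow H h)) = _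
    simp only [q, b]
    linarith
  -- a bound for one exponent
  let h₀ : ℕ := (c₀ - σ).toNat + 1
  obtain ⟨B₀, hB₀⟩ := exists_h0_bound (k := k) i hdim (h₀ * SurfPairing.pair k (tw i 1) (tw i 1))
  have hbd : ∀ h, (c₀ - σ).toNat < h → ∀ B : ℕ,
      (∀ A : X.Modules, PicF.IsInvertible A → SurfPairing.pair k (PicF.cl A) (tw i 1) =
        h * SurfPairing.pair k (tw i 1) (tw i 1) → Module.finrank k (Coh.HH X A 0) ≤ B) →
      ∀ m, Curv2.euler k X (N m h) ≤ B := by
    intro h hh B hB m
    have hs := hc₀ (N m h) (N m h) (𝟙 _) inferInstance (AmpleVan.isCoh_invertible (hN m h)) (hN m h) (by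
      rw [hslN]
      have := Int.self_le_toNat (c₀ - σ)
      have hh' : ((c₀ - σ).toNat : ℤ) < h := by exact_mod_cast hh
      nlinarith)
    refine (euler_le_h0 (k := k) hdim (AmpleVan.isCoh_invertible (hN m h)) hs).trans ?_
    exact_mod_cast hB _ (hN m h) (hNH m h)
  obtain ⟨hq, hb⟩ := eq_zero_of_bounded (q := q) (b := b) (c := 2 * Curv2.euler k X (CohB1.tensorPow H h₀))
    (B := 2 * (B₀ : ℤ)) hLL fun m => by
      have := hbd h₀ (Nat.lt_succ_self _) B₀ hB₀ m
      linarith [hχ m h₀]
  refine ⟨hq, by simp only [b, hq, sub_zero] at hb; exact hb, fun hLO Y ι _ hY hY1 => ?_⟩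
  haveI := hY
  letI : Y.Over (Spec (CommRingCat.of k)) := ⟨ι ≫ (X ↘ Spec (CommRingCat.of k))⟩
  haveI : IsLocallyNoetherian Y := LocallyOfFiniteType.isLocallyNoetherian ι
  let OY := (Coh.push ι).obj (Coh.structureModule Y)
  have hOY : Coh.IsCoh OY := QCoh.isCoh_push_structure ι
  obtain ⟨eO⟩ := PicClLib.nonempty_pullback_structureModule ι
  have hO := AmpleVan.isCoh_invertible (InvX.isInvertible_structureModule (X := X))
  let v : Coh.structureModule X ⟶ OY :=
    (Scheme.Modules.pullbackPushforwardAdjunction ι).unit.app (Coh.structureModule X) ≫ (Coh.push ι).map eO.hom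
  haveI : Epi v := by
    haveI := Nakai.epi_unit ι hO.1
    exact epi_comp _ _
  have hK := QCoh.isCoh_kernel hO hOY v
  have hS0 : (ShortComplex.mk (kernel.ι v) v (kernel.condition v)).ShortExact :=
    .mk' (ShortComplex.exact_of_f_is_kernel _ (kernelIsKernel v)) inferInstance ‹_›
  have hηY : genericPoint X ∉ CohB1.support OY := fun hη => by
    have h1 := QCoh.support_push_subset ι QCoh.isQCoh_structureModule hη
    have h2 : Set.range ι = Set.univ := Set.eq_univ_of_forall fun x =>
      (genericPoint_specializes x).mem_closed ι.isClosedEmbedding.isClosed_range h1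
    have h3 : topologicalKrullDim Y = topologicalKrullDim X := IsHomeomorph.topologicalKrullDim_eq _
      ((ι.isClosedEmbedding.isEmbedding.toHomeomorph.trans (Homeomorph.setCongr h2)).trans
        (Homeomorph.Set.univ _)).isHomeomorph
    rw [hY1, hdim] at h3
    exact absurd h3 (by decide)
  obtain ⟨hσY, hslY⟩ := sl_small (k := k) i hdim hOY hηY
  let h₁ : ℕ := (c₀ - σ + sl (k := k) i OY).toNat + 1
  obtain ⟨B₁, hB₁⟩ := exists_h0_bound (k := k) i hdim (h₁ * SurfPairing.pair k (tw i 1) (tw i 1))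
  let δ := Pic13.curveDeg k (ι ≫ (X ↘ Spec (CommRingCat.of k))) ((Scheme.Modules.pullback ι).obj L)
  let ε := Pic13.curveDeg k (ι ≫ (X ↘ Spec (CommRingCat.of k)))
    ((Scheme.Modules.pullback ι).obj (CohB1.tensorPow H h₁))
  have hdeg : ∀ m, Pic13.curveDeg k (ι ≫ (X ↘ Spec (CommRingCat.of k))) ((Scheme.Modules.pullback ι).obj (N m h₁)) =
      m * δ + ε := fun m => by
    rw [curveDeg_tensor ι hY1 (PicMul.isInvertible_tensorPow hL m) (PicMul.isInvertible_tensorPow hH h₁),
      curveDeg_pow ι hY1 hL m]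
  suffices -δ ≤ 0 by simp only [δ] at this; omega
  refine nonpos_of_bounded (c := Curv2.euler k X (CohB1.tensorPow H h₁) - Curv2.euler k X OY - ε) (B := B₁) fun m => ?_
  obtain ⟨S, hS, d1, d2, d3, e1, e2, e3⟩ := exists_ses_ten (hN m h₁) hS0 hK hO hOY rfl rfl rfl
  rw [← PicMul.one_def, one_mul] at e2
  obtain ⟨w⟩ := cl_eq_iff.1 e2
  haveI := hS.mono_f
  have hsl3 : sl (k := k) i S.X₃ = sl (k := k) i OY :=
    (hslY (N m h₁) (hN m h₁) S.X₃ (CohB1.tensorMod (CohB1.tensorMod OY (NumTriv.twMod i (-1))) (N m h₁)) e3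
      (by rw [cl_tensor, cl_tensor]; rfl)).1
  have hsl2 : sl (k := k) i S.X₂ = σ + h₁ * SurfPairing.pair k (tw i 1) (tw i 1) := by
    rw [sl_of_cl (k := k) i e2, hslN]
  have hadd := sl_add (k := k) i hS d1 d2 d3
  have hh1 : c₀ - σ + sl (k := k) i OY < h₁ := by
    have := Int.self_le_toNat (c₀ - σ + sl (k := k) i OY)
    simp only [h₁]; push_cast; omega
  have hs := hc₀ S.X₁ (N m h₁) (S.f ≫ w.hom) (mono_comp _ _) d1 (hN m h₁) (by nlinarith)
  have h1 := euler_le_h0 (k := k) hdim d1 hs
  have h2 := (S17630.bounds k hS d1 d2 d3 0).2.1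
  have h3 : Module.finrank k (Coh.HH X S.X₂ 0) ≤ B₁ := by
    rw [NumTriv.finrank_of_cl e2 0]; exact hB₁ _ (hN m h₁) (hNH m h₁)
  have h4 := Euler.euler_add k hS d1 d2 d3
  have h5 : Curv2.euler k X S.X₃ = m * δ + ε + Curv2.euler k X OY := by
    rw [← hdeg, Pic13Lib.curveDeg_eq ι hY1 _ (hN m h₁), ← SurfPairing.χ_cl, e3, ← cl_tensor, SurfPairing.χ_cl]
    ring
  have h6 : Curv2.euler k X S.X₂ = Curv2.euler k X (N m h₁) := CurveCohLib.euler_congr (k := k) w
  have h7 := hχ m h₁
  have hb0 : b = 0 := by simp only [b, hq, hLO, sub_self, mul_zero]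
  rw [show q = 0 from hq, hb0] at h7
  have : (Curv2.euler k X S.X₁ : ℤ) ≤ B₁ := h1.trans (by exact_mod_cast h2.trans h3)
  linarith

include hi hdim in
/-- The Hodge index theorem: orthogonal to the hyperplane class and of nonnegative square means numerically zero. -/
theorem isNumEquivZero_surface {L : X.Modules} (hL : PicF.IsInvertible L)
    (hLH : SurfPairing.pair k (PicF.cl L) (tw i 1) = 0) (hLL : 0 ≤ SurfPairing.pair k (PicF.cl L) (PicF.cl L)) :
    Pic13.IsNumEquivZero k X L := by
  obtain ⟨L', hL', e⟩ := PicInv.exists_inverse hL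
  have hinv : PicF.cl L * PicF.cl L' = 1 := by
    rw [← cl_tensor, PicMul.one_def]
    exact cl_eq_iff.2 e
  obtain ⟨hq, hb, hpos⟩ := step i hi hdim hL hLH hLL
  have hLL' : SurfPairing.pair k (PicF.cl L) (PicF.cl L') = 0 := by
    rw [SurfPairing.pair_inv k hdim.le hL hL hL' hinv, hq, neg_zero]
  have hLL'' : SurfPairing.pair k (PicF.cl L') (PicF.cl L') = 0 := by
    rw [SurfPairing.pair_inv k hdim.le hL' hL hL' hinv, SurfPairing.pair_comm, hLL', neg_zero]
  obtain ⟨-, hb', hpos'⟩ := step i hi hdim hL' (by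
    rw [SurfPairing.pair_comm, tw_eq, SurfPairing.pair_inv k hdim.le (isInvertible_tw i 1) hL hL' hinv,
      SurfPairing.pair_comm, ← tw_eq, hLH, neg_zero]) hLL''.ge
  have hsum : Curv2.euler k X L + Curv2.euler k X L' = 2 * Curv2.euler k X (Coh.structureModule X) := by
    rw [SurfPairing.pair, hinv, SurfPairing.χ_cl, SurfPairing.χ_cl, SurfPairing.χ_one] at hLL'
    linarith
  intro Y ι _ hY hY1
  haveI := hY
  have h1 := hpos (by omega) Y ι hY hY1
  have h2 := hpos' (by omega) Y ι hY hY1
  have h3 := curveDeg_tensor (k := k) ι hY1 hL hL'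
  rw [NumTriv.curveDeg_of_cl k ι (M := Coh.structureModule X) (by rw [cl_tensor, hinv, PicMul.one_def]),
    Pic13Lib.curveDeg_structure] at h3
  omega

end Groth.Agent.Pic13Lib.Hodge
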