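import Groth.Agent.Pic13Lib.Hodge.Inter
import Groth.Agent.Pic13Lib.Bdd.Consequences
import Groth.Agent.S1026

/-!
# Numerical triviality through Euler characteristics, and Euler characteristics of geometric fibres
-/

set_option autoImplicit false
set_option linter.style.haveILetI false
set_option linter.unusedSectionVars false
set_option backward.isDefEq.respectTransparency false
set_option backward.isDefEq.respectTransparency.types false
set_option maxHeartbeats 1000000

universe u

open CategoryTheory CategoryTheory.Limits AlgebraicGeometry TopologicalSpace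
open Groth.Agent.H23 Groth.Agent.H23.PicMul
open Groth.Agent.H23.IntNumCycle (alt)

attribute [local instance] PicMul.clMonoid

noncomputable section

namespace Groth.Agent.Pic13Lib.Hodge

variable {k : Type u} [Field k] {X : Scheme.{u}} [X.Over (Spec (CommRingCat.of k))]
  [IsProper (X ↘ Spec (CommRingCat.of k))]

/-- Euler characteristics unchanged by `L` and `L^2` on powers of an ample module give numerical triviality. -/
theorem isNumEquivZero_of_euler [IrreducibleSpace X] {H L : X.Modules} (hH : CohB1.IsAmple H)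
    (hL : PicF.IsInvertible L)
    (h : ∀ a n : ℕ, a ≤ 2 → SurfPairing.χ k (PicF.cl L ^ a * PicF.cl H ^ n) = SurfPairing.χ k (PicF.cl H ^ n)) :
    Pic13.IsNumEquivZero k X L := by
  haveI := CurveCohLib.isNoetherian_of_proper (k := k) (X := X)
  obtain ⟨r, hr⟩ : ∃ r : ℕ, topologicalKrullDim X = (r : WithBot ℕ∞) :=
    ⟨_, VarDim.topologicalKrullDim_eq_deg_genericPoint (X ↘ Spec (CommRingCat.of k))⟩
  match r, hr with
  | 0, hr =>
    intro Y i _ hYi hY
    have h := i.isClosedEmbedding.isInducing.topologicalKrullDim_le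
    rw [hY, hr] at h
    exact absurd h (by decide)
  | 1, hr =>
    refine isNumEquivZero_dim_one (hr.trans Nat.cast_one) hL (alt_cons_eq_zero fun I => ?_)
    rw [Finset.eq_empty_of_isEmpty I, Finset.prod_empty, mul_one, mul_one, ← PicMul.one_def, one_mul]
    simpa using h 1 0 (by norm_num)
  | s + 2, hr =>
    refine index_irreducible hr hH hL (alt_cons_eq_zero fun I => ?_) (le_of_eq ?_)
    · rw [Finset.prod_const, ← PicMul.one_def, one_mul, one_mul]
      simpa using h 1 I.card (by norm_num)
    · refine (mul_eq_zero_of_right _ (alt_cons_eq_zero fun I => ?_)).symm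
      obtain ⟨a, n, hle, ha⟩ : ∃ a n : ℕ, a ≤ (if (0 : Fin (s + 1)) ∈ I then 1 else 0) ∧
          ∏ i ∈ I, PicF.cl ((Fin.cons L fun _ => H : Fin (s + 1) → X.Modules) i) =
          PicF.cl L ^ a * PicF.cl H ^ n := by
        induction I using Finset.induction with
        | empty => exact ⟨0, 0, by simp, by simp⟩
        | insert i I hi ih =>
          obtain ⟨a, n, hle, ha⟩ := ih
          induction i using Fin.cases with
          | zero =>
            rw [if_neg hi] at hle
            exact ⟨a + 1, n, by rw [if_pos (Finset.mem_insert_self _ _)]; omega,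
              by rw [Finset.prod_insert hi, ha, Fin.cons_zero, pow_succ', mul_assoc]⟩
          | succ i =>
            refine ⟨a, n + 1, ?_, by rw [Finset.prod_insert hi, ha, Fin.cons_succ, pow_succ', mul_left_comm]⟩
            by_cases h0 : (0 : Fin (s + 1)) ∈ I
            · rw [if_pos h0] at hle; rw [if_pos (Finset.mem_insert_of_mem h0)]; exact hle
            · rw [if_neg h0] at hle; exact hle.trans (Nat.zero_le _)
      have ha1 : a ≤ 1 := hle.trans (by split_ifs <;> omega)
      rw [ha, ← PicMul.one_def, one_mul, one_mul, ← mul_assoc, ← pow_succ', h _ _ (by omega), h _ _ (by omega)]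

/-- On an irreducible projective scheme the τ-trivial modules are those not changing Euler characteristics. -/
theorem isTauEquivZero_iff_euler [IsAlgClosed k] [IrreducibleSpace X] {H L : X.Modules} (hH : CohB1.IsAmple H)
    (hL : PicF.IsInvertible L) :
    Pic13.IsTauEquivZero k X L ↔
      ∀ a n : ℕ, a ≤ 2 → SurfPairing.χ k (PicF.cl L ^ a * PicF.cl H ^ n) = SurfPairing.χ k (PicF.cl H ^ n) := by
  refine ⟨fun hτ a n _ => ?_, fun h => Bdd.isTauEquivZero_of_nt ⟨hL, isNumEquivZero_of_euler hH hL h⟩⟩
  haveI := CurveCohLib.isNoetherian_of_proper (k := k) (X := X)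
  have hnt := Bdd.isNT_of_tau hL hτ
  rw [mul_comm, ← cl_tensorPow, ← cl_tensorPow, ← cl_tensor, SurfPairing.χ_cl, SurfPairing.χ_cl]
  exact NumTriv.euler_tensor_proj hH (hnt.pow k a)
    (AmpleVan.isCoh_invertible (InvX.isInvertible_tensorPow hH.1 n))

/-- The Euler characteristic of a geometric fibre is that of the fibre. -/
theorem euler_geometric_fibre {Y S : Scheme.{u}} (f : Y ⟶ S) [IsProper f] (Ω : Type u) [Field Ω]
    (σ : Spec (CommRingCat.of Ω) ⟶ S) (M : Y.Modules) (hM : Coh.IsQCoh M) :
    @Curv2.euler Ω _ (pullback f σ) ⟨pullback.snd f σ⟩ ((Scheme.Modules.pullback (pullback.fst f σ)).obj M) =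
      PerfAux.eulerChar f M (σ (IsLocalRing.closedPoint Ω)) := by
  let s : S := σ (IsLocalRing.closedPoint Ω)
  let κ := S.residueField s
  obtain ⟨ψ, hψ⟩ : ∃ ψ : CommRingCat.of κ ⟶ CommRingCat.of Ω, Spec.map ψ ≫ S.fromSpecResidueField s = σ :=
    ⟨_, Scheme.descResidueField_stalkClosedPointTo_fromSpecResidueField Ω S σ⟩
  letI : Algebra κ Ω := ψ.hom.toAlgebra
  letI : (f.fiber s).Over (Spec (CommRingCat.of κ)) := ⟨f.fiberToSpecResidueField s⟩
  haveI : IsProper (f.fiber s ↘ Spec (CommRingCat.of κ)) :=
    MorphismProperty.pullback_snd f (S.fromSpecResidueField s) ‹IsProper f›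
  haveI := CurveCohLib.isNoetherian_of_proper (k := κ) (X := f.fiber s)
  haveI : QuasiSeparatedSpace (f.fiber s) :=
    quasiSeparatedSpace_of_quasiSeparated (f.fiber s ↘ Spec (CommRingCat.of κ))
  letI : (pullback f σ).Over (Spec (CommRingCat.of Ω)) := ⟨pullback.snd f σ⟩
  let g : pullback f σ ⟶ f.fiber s :=
    pullback.lift (pullback.fst f σ) (pullback.snd f σ ≫ Spec.map ψ)
      (by rw [pullback.condition, Category.assoc, hψ])
  have e1 : g ≫ f.fiberι s = pullback.fst f σ := pullback.lift_fst _ _ _
  have hpb : IsPullback g (pullback f σ ↘ Spec (CommRingCat.of Ω)) (f.fiber s ↘ Spec (CommRingCat.of κ))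
      (Spec.map (CommRingCat.ofHom (algebraMap κ Ω))) := by
    refine IsPullback.of_right ?_ (pullback.lift_snd _ _ _) (IsPullback.of_hasPullback f (S.fromSpecResidueField s))
    show IsPullback (g ≫ f.fiberι s) (pullback.snd f σ) f (Spec.map ψ ≫ S.fromSpecResidueField s)
    rw [e1, hψ]
    exact IsPullback.of_hasPullback f σ
  rw [CurveCohLib.euler_congr (k := Ω) ((Scheme.Modules.pullbackCongr e1).app M).symm,
    CurveCohLib.euler_congr (k := Ω) ((Scheme.Modules.pullbackComp g (f.fiberι s)).app M).symm]
  exact CurveBC.euler_eq κ Ω g hpb ((Scheme.Modules.pullback (f.fiberι s)).obj M) (QCoh.isQCoh_pullback _ hM)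

end Groth.Agent.Pic13Lib.Hodge
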